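import Cfsg.Agent.H262.ElFourA
import Cfsg.Agent.H947.Cyc.Basic_m3
import Cfsg.Agent.H899.Cyc.CycOut
import Cfsg.Agent.S0270
import Cfsg.Agent.S0247
import Cfsg.Agent.H813.SaxSpK
import Cfsg.Agent.S0288
import Cfsg.Agent.Prune
set_option linter.all false

section
prune_inst 0x7fffe8ffbbfe7fdeffff7e77fefcdffc3b925fffefdff94bffec69df0fdf939e0fe5fbaf8de030fe1ed6e21c18b97843f9ffdeffe26bdc7ffffd5ff45ffbee1fe5ffbd0871979c340ffe6ffffbf0778e7f3fffffffffffffffffffffffffffbeffbfffffffff

-- part: H81/CycS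
section
prune_inst 0x1700400100000000000800010003c42da000000006b000008220a0006800d0100400720b4b0001200c2200448790060020000994010000000000000011c0080000050040200a100000000000004000000000000000000000000000000000000000000000
set_option linter.all false
open scoped Cfsg.Agent.FastGrp

/-!
# Cyclic primes of the symplectic groups (CYC-GEO-S, for S3561 and S3679; helper81)

* `finrank_cm`  : commutator spaces of the elements of order `r` of `Sp_2m(q)`, `ord_r(q) = e > m` even or `e > m / 2`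
  odd;
* `cycW_psp`    : `CycW (PSp m F) r`;
* `cyc_psp`     : `Cyc (PSp m F) r` for the primes `r` prime to the exponent of `q`.
-/

set_option autoImplicit false

namespace Cfsg.Agent.H81.CycS

open Cfsg Cfsg.Geo Module
open Cfsg.Agent.H884.El (PP oddE oddE_of_even oddE_of_odd oddE_odd exists_char one_lt_q lin lin_one ord_eq lin_ne_one)
open Cfsg.Agent.ClassicalGeometry.SympBasic Cfsg.Agent.H876 Cfsg.Agent.H931 Cfsg.Agent.H262.El
open Cfsg.Agent.H899.CG Cfsg.Agent.H436
open Cfsg.Agent.H951 (fx cm Inv)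
open scoped Matrix MatrixGroups

universe u

/-- primitivity: the two definitions -/
theorem pp_of_prim {q e r : ℕ} (hq : 1 ≤ q) (h : Prim q e r) : PP q e r := by
  refine ⟨h.prime, ?_⟩
  have h1 : ∀ k : ℕ, (q : ZMod r) ^ k = 1 ↔ r ∣ q ^ k - 1 := by
    intro k
    have h2 : ((q ^ k - 1 : ℕ) : ZMod r) = (q : ZMod r) ^ k - 1 := by
      rw [Nat.cast_sub (Nat.one_le_pow _ _ hq)]
      simp
    rw [← ZMod.natCast_eq_zero_iff, h2, sub_eq_zero]
  apply Nat.dvd_antisymm
  · rw [orderOf_dvd_iff_pow_eq_one, h1, h.dvd_iff]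
  · rw [← h.dvd_iff, ← h1]
    exact pow_orderOf_eq_one _

section gen

variable {F : Type u} [Field F] [Fintype F] {m : ℕ}

/-- the representation of `Sp_2m` -/
noncomputable def rep (m : ℕ) (F : Type u) [Field F] :
    Matrix.symplecticGroup (Fin m) F →* Module.End F (Fin m ⊕ Fin m → F) where
  toFun x := lin (spToGL m F x)
  map_one' := by rw [map_one]; exact lin_one
  map_mul' x y := by
    rw [map_mul]
    show Matrix.toLin' _ = _
    rw [Units.val_mul, Matrix.toLin'_mul]
    rfl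

omit [Fintype F] in
theorem rep_injective : Function.Injective (rep m F) := fun _ _ h =>
  spToGL_injective (Cfsg.Agent.H884.El.lin_injective h)

theorem lin_pow (g : GL (Fin m ⊕ Fin m) F) (k : ℕ) : lin (g ^ k) = lin g ^ k := H251.GeoCard.toLin_pow g k

theorem finrank_cm {g : GL (Fin m ⊕ Fin m) F} (hg : g ∈ spGL m F) {e r : ℕ} (hr : PP (Nat.card F) e r)
    (he : 3 ≤ e) (hgr : g ^ r = 1) (hg1 : g ≠ 1) (h : (Even e ∧ m < e) ∨ (Odd e ∧ m < 2 * e)) :
    (Even e ∧ finrank F (cm (lin g)) = e) ∨ (Odd e ∧ finrank F (cm (lin g)) = 2 * e) := by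
  have hne : (r : F) ≠ 0 := hr.ne0 (by omega)
  have hprime := Fact.mk hr.prime
  have hx : lin g ^ r = 1 := by rw [← lin_pow, hgr]; exact lin_one
  have hcf : cm (lin g) ⊓ fx (lin g) = ⊥ := by
    rw [inf_comm]; exact (H951.isCompl_fx_cm hne hx).inf_eq_bot
  have hdvd : e ∣ finrank F (cm (lin g)) := by
    have h1 := H951.ord_dvd_finrank hx H951.inv_cm hcf
    rwa [ord_eq hr] at h1
  have hadd : finrank F (cm (lin g)) + finrank F (fx (lin g)) = 2 * m := by
    have h1 := LinearMap.finrank_range_add_finrank_ker (lin g - 1)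
    rw [Module.finrank_fintype_fun_eq_card, card_sum_fin] at h1
    exact h1
  have hfix : fixS g = fx (lin g) := by
    ext v
    rw [mem_fixS, H951.mem_fx, lin, Matrix.toLin'_apply]
  have hev : Even (finrank F (fx (lin g))) := by
    rw [← hfix]
    exact even_fixS hg hne hgr
  have hpos : finrank F (cm (lin g)) ≠ 0 := fun h0 =>
    Cfsg.Agent.H884.El.cm_ne_bot (lin_ne_one hg1) (Submodule.finrank_eq_zero.1 h0)
  obtain ⟨c, hc⟩ := hdvd
  obtain ⟨d, hd⟩ := hev
  have hc0 : c ≠ 0 := by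
    rintro rfl
    exact hpos (by rw [hc, mul_zero])
  rcases h with ⟨h1, h2⟩ | ⟨h1, h2⟩
  · left
    refine ⟨h1, ?_⟩
    have hc2 : c < 2 := by
      by_contra hcon
      have := Nat.mul_le_mul_left e (show 2 ≤ c by omega)
      omega
    obtain rfl : c = 1 := by omega
    rw [hc, mul_one]
  · right
    refine ⟨h1, ?_⟩
    have hc4 : c < 4 := by
      by_contra hcon
      have := Nat.mul_le_mul_left e (show 4 ≤ c by omega)
      omega
    have hce : Even (e * c) := by
      rw [← hc]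
      exact ⟨m - d, by omega⟩
    have hc' : Even c := by
      rcases Nat.even_mul.1 hce with h3 | h3
      · exact absurd h1 (Nat.not_odd_iff_even.2 h3)
      · exact h3
    obtain ⟨k, hk⟩ := hc'
    obtain rfl : c = 2 := by omega
    rw [hc, mul_comm]

theorem dvd_card_of (hm : 1 ≤ m) {e r : ℕ} (he : 3 ≤ e) (hr : PP (Nat.card F) e r)
    (h : (Even e ∧ e ≤ 2 * m) ∨ (Odd e ∧ e ≤ m)) : r ∣ Nat.card (PSp m F) := by
  have hr2 : r ≠ 2 := by have := hr.lt (by omega); omega
  refine dvd_card_PSp hm hr.prime hr2 ?_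
  rcases h with ⟨⟨k, hk⟩, h2⟩ | ⟨-, h2⟩
  · exact dvd_card_spGL (k := k) hm (od_of_pp hr (by omega)) (by rw [hk, ← two_mul]) (by omega) (by omega)
  · exact dvd_card_spGL (k := e) hm (od_of_pp hr (by omega)) (Dvd.intro_left 2 rfl) (by omega) h2

/-- **Cyclic primes of `PSp_2m(q)`, weak form.** -/
theorem cycW_psp {e r : ℕ} (he3 : 3 ≤ e)
    (h : (Even e ∧ e ≤ 2 * m ∧ m < e) ∨ (Odd e ∧ e ≤ m ∧ m < 2 * e)) (hr : PP (Nat.card F) e r) :
    CycW (PSp m F) r := by
  have hlt := hr.lt (by omega)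
  have hm : 1 ≤ m := by omega
  have hr2 : r ≠ 2 := by omega
  have hne : (r : F) ≠ 0 := hr.ne0 (by omega)
  have hfin : Finite (Matrix.symplecticGroup (Fin m) F) := inferInstance
  have hprime := Fact.mk hr.prime
  have hdim : ∀ g : Matrix.symplecticGroup (Fin m) F, g ^ r = 1 → g ≠ 1 →
      (Even e ∧ finrank F (cm (rep m F g)) = e) ∨ (Odd e ∧ finrank F (cm (rep m F g)) = 2 * e) := by
    intro g hgr hg1
    refine finrank_cm (spToGL_mem g) hr he3 (by rw [← map_pow, hgr, map_one]) ?_ ?_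
    · intro h1
      exact hg1 (spToGL_injective (by rw [h1, map_one]))
    · rcases h with ⟨h1, -, h3⟩ | ⟨h1, -, h3⟩
      · exact Or.inl ⟨h1, h3⟩
      · exact Or.inr ⟨h1, h3⟩
  have hU : ∀ g : Matrix.symplecticGroup (Fin m) F, g ^ r = 1 → ∀ U : Submodule F (Fin m ⊕ Fin m → F),
      Inv (rep m F g) U → U ⊓ fx (rep m F g) = ⊥ → U ≠ ⊥ → e ≤ finrank F U := by
    intro x hx U hU hUf hU0
    have hxr : rep m F x ^ r = 1 := by rw [← map_pow, hx, map_one]
    have h1 := H951.ord_dvd_finrank hxr hU hUf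
    rw [ord_eq hr] at h1
    exact Nat.le_of_dvd (Nat.pos_of_ne_zero fun h => hU0 (Submodule.finrank_eq_zero.1 h)) h1
  have hK : (QuotientGroup.mk' (Subgroup.center (Matrix.symplecticGroup (Fin m) F))).ker ≤
      Subgroup.center (Matrix.symplecticGroup (Fin m) F) := by rw [QuotientGroup.ker_mk']
  have hrK : ¬ r ∣ Nat.card (QuotientGroup.mk' (Subgroup.center (Matrix.symplecticGroup (Fin m) F))).ker := by
    rw [QuotientGroup.ker_mk', Cfsg.Agent.S0246.result (q := Fintype.card F) rfl m hm]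
    intro h1
    exact hr2 ((Nat.prime_dvd_prime_iff_eq hr.prime Nat.prime_two).1 (h1.trans (Nat.gcd_dvd_left _ _)))
  have hrT : r ∣ Nat.card (PSp m F) := dvd_card_of hm he3 hr (by
    rcases h with ⟨h1, h2, -⟩ | ⟨h1, h2, -⟩
    · exact Or.inl ⟨h1, h2⟩
    · exact Or.inr ⟨h1, h2⟩)
  rcases Nat.even_or_odd e with hev | hod
  · exact H884.Cg.cycW_of (F := F) (d := e) (QuotientGroup.mk' (Subgroup.center (Matrix.symplecticGroup (Fin m) F)))
      (QuotientGroup.mk'_surjective _) hK hr.prime (by omega) hne hrK hrT (rep m F) rep_injective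
      (show 0 < e by omega) (by omega)
      (fun g hgr hg1 => (hdim g hgr hg1).elim (fun h1 => h1.2) (fun h1 => absurd h1.1 (Nat.not_odd_iff_even.2 hev))) hU
  · exact H884.Cg.cycW_of (F := F) (d := 2 * e)
      (QuotientGroup.mk' (Subgroup.center (Matrix.symplecticGroup (Fin m) F)))
      (QuotientGroup.mk'_surjective _) hK hr.prime (by omega) hne hrK hrT (rep m F) rep_injective
      (show 0 < e by omega) le_rfl
      (fun g hgr hg1 => (hdim g hgr hg1).elim (fun h1 => absurd h1.1 (Nat.not_even_iff_odd.2 hod)) (fun h1 => h1.2)) hU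

end gen

variable {F : Type} [Field F] [Fintype F] {m : ℕ}

theorem psp_na (hm : 2 ≤ m) (h22 : m = 2 → 3 ≤ Fintype.card F) : ¬ ∀ a b : PSp m F, a * b = b * a := by
  intro h
  have hs : IsSimpleGroup (PSp m F) := S0270.result m hm h22
  let _ : CommGroup (PSp m F) := { (inferInstance : Group (PSp m F)) with mul_comm := h }
  obtain ⟨x, hx⟩ := exists_ne (1 : PSp m F)
  obtain ⟨g, rfl⟩ := QuotientGroup.mk'_surjective _ x
  apply hx
  refine LieClassical.SympPerfect.map_eq_one (A := PSp m F) ?_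
    (QuotientGroup.mk' (Subgroup.center (Matrix.symplecticGroup (Fin m) F))) g
  by_cases h2 : m = 2
  · exact Or.inr (Or.inl ⟨h2, h22 h2⟩)
  · left; omega

/-- **Cyclic primes of `PSp_2m(q)`.** -/
theorem cyc_psp' {e r : ℕ} (he3 : 3 ≤ e)
    (h : (Even e ∧ e ≤ 2 * m ∧ m < e) ∨ (Odd e ∧ e ≤ m ∧ m < 2 * e)) (hr : PP (Nat.card F) e r)
    (hndf : NDF (Fintype.card F) r) : Cyc (PSp m F) r := by
  have hW := cycW_psp (F := F) he3 h hr
  have hlt := hr.lt (by omega)
  have hm : 2 ≤ m := by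
    rcases h with ⟨⟨k, hk⟩, h2, -⟩ | ⟨-, h2, -⟩ <;> omega
  by_cases h22 : m = 2 ∧ Fintype.card F = 2
  · -- `PSp_4(2)` has order `720`
    obtain ⟨rfl, hF⟩ := h22
    have he4 : e = 4 := by
      rcases h with ⟨⟨k, hk⟩, h2, h3⟩ | ⟨-, h2, -⟩ <;> omega
    subst he4
    have hr5 : r = 5 := by
      have h1 := (hr.dvd_iff (one_lt_q F).le 4).2 dvd_rfl
      rw [Nat.card_eq_fintype_card, hF] at h1
      have h3 : r ∣ 3 * 5 := h1
      rcases hr.prime.dvd_mul.1 h3 with h4 | h4
      · have := Nat.le_of_dvd (by norm_num) h4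
        omega
      · have := Nat.le_of_dvd (by norm_num) h4
        have := hr.prime
        omega
    subst hr5
    refine cyc_of_sq (by norm_num) hW.2.1 ?_
    intro h1
    have h2 : 5 ^ 2 ∣ Nat.card (Matrix.symplecticGroup (Fin 2) F) :=
      h1.trans (Subgroup.card_quotient_dvd_card _)
    obtain ⟨φ⟩ := Cfsg.Agent.S0247.result (F := F) hF
    rw [Nat.card_congr φ.toEquiv, Nat.card_perm, Nat.card_eq_fintype_card, Fintype.card_fin] at h2
    exact absurd h2 (by decide)
  · have hq := one_lt_q F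
    rw [Nat.card_eq_fintype_card] at hq
    have h3 : m = 2 → 3 ≤ Fintype.card F := fun hm2 => by
      by_contra hcon
      exact h22 ⟨hm2, by omega⟩
    have hs : IsSimpleGroup (PSp m F) := S0270.result m hm h3
    have hfin : Finite (PSp m F) := Quotient.finite _
    obtain ⟨p, f, hp, hf, hpF⟩ := exists_char F
    have hn : IsNamed (.psp m (Fintype.card F)) (PSp m F) :=
      .mk' ⟨F, inferInstance, inferInstance, rfl, ⟨MulEquiv.refl _⟩⟩
        ⟨hm, h3, Fintype.isPrimePow_card_of_field⟩ (psp_eq hm)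
    have h5 : 5 ≤ r := by
      by_contra hcon
      have h4 : r = 4 := by omega
      have := hr.prime
      rw [h4] at this
      exact absurd this (by norm_num)
    exact cyc_of_weak (psp_na hm h3) hp hn ⟨f, by rw [← hpF, Nat.card_eq_fintype_card]⟩ h5 hndf trivial hW

/-- **Cyclic primes of `PSp_2m(q)`.** -/
theorem cyc_psp {e u : ℕ} (he3 : 3 ≤ e)
    (h : (Even e ∧ e ≤ 2 * m ∧ m < e) ∨ (Odd e ∧ e ≤ m ∧ m < 2 * e)) (hu : Prim (Fintype.card F) e u)
    (hndf : NDF (Fintype.card F) u) : Cyc (PSp m F) u :=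
  cyc_psp' he3 h (by rw [Nat.card_eq_fintype_card]; exact pp_of_prim Fintype.card_pos hu) hndf

end Cfsg.Agent.H81.CycS
end

-- part: H81/CycSRow
section
prune_inst 0x100000000210000000000000002004580000000000000001400a020200000080000000008000000042200000000000000000900000000000000000000401200000100480080000000000000000000000000000000000000000000000000000000000000
set_option linter.all false
open scoped Cfsg.Agent.FastGrp

/-!
# Cyclic gaps of the symplectic groups: the geometric classes (CYC-GEO-S; helper81)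

* `HitsN H e`  : the primes `r` with `ord_r(q) = e`, prime to the exponent of `q`, divide `|H|`;
* `SpecM m F H` : as `H262.El.Spec`, with a quadratic form of minus type;
* `row_cyc`    : the symplectic row.
-/

set_option autoImplicit false

namespace Cfsg.Agent.H81.CycS

open Cfsg Cfsg.Geo Module
open Cfsg.Agent.H884.El (PP oddE oddE_of_even oddE_of_odd oddE_odd exists_char one_lt_q lin lin_one ord_eq lin_ne_one
  exists_elt)
open Cfsg.Agent.ClassicalGeometry.SympBasic Cfsg.Agent.H876 Cfsg.Agent.H931 Cfsg.Agent.H262.El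
open Cfsg.Agent.H899.CG Cfsg.Agent.H436
open Cfsg.Agent.H951 (fx cm Inv)
open scoped Matrix MatrixGroups

universe u

variable {F : Type u} [Field F] [Fintype F] {m : ℕ}

/-- the order of `H` is divisible by the primes `r` with `ord_r(q) = e`, prime to the exponent of `q`. -/
def HitsN {ι : Type} [Fintype ι] [DecidableEq ι] (H : Subgroup (GL ι F)) (e : ℕ) : Prop :=
  ∀ r, PP (Nat.card F) e r → NDF (Fintype.card F) r → r ∣ Nat.card H

omit [Field F] in
theorem exists_ppn [Field F] {e : ℕ} (he : 3 ≤ e) (h6 : ¬ (Nat.card F = 2 ∧ e = 6)) :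
    ∃ r, PP (Nat.card F) e r ∧ NDF (Fintype.card F) r := by
  rw [Nat.card_eq_fintype_card] at h6 ⊢
  obtain ⟨r, h1, h2⟩ := exists_prim_ndf (Fintype.isPrimePow_card_of_field (α := F)) he h6
  exact ⟨r, pp_of_prim Fintype.card_pos h1, h2⟩

/-- the special overgroups: `O^-_2m(q)` for `m`, `q` even, and `Sp_2(q²).2` in `Sp_4(q)` -/
def SpecM (m : ℕ) (F : Type u) [Field F] [Fintype F] (H : Subgroup (GL (Fin m ⊕ Fin m) F)) : Prop :=
  (Even m ∧ Even (Fintype.card F) ∧ ∃ Q : QuadraticForm F (Fin m ⊕ Fin m → F), IsNondegenerateQuadraticForm (⇑Q) ∧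
    LieClassical.OrthCore.Nondeg Q ∧ ¬ H955.IsPlus Q ∧
    (∀ u v, QuadraticMap.polar (⇑Q) u v = sympForm m F u v) ∧ H ≤ isometryGroup F (⇑Q)) ∨
  (m = 2 ∧ ∃ K : Subalgebra F (Matrix (Fin m ⊕ Fin m) (Fin m ⊕ Fin m) F), IsFieldSubalgebra 2 K ∧
    IsSelfAdjointFor (sympForm m F) K ∧ H ≤ subalgebraNormalizer K)

theorem SpecM.spec {H : Subgroup (GL (Fin m ⊕ Fin m) F)} (h : SpecM m F H) : Spec m F H := by
  rcases h with ⟨h1, h2, Q, h3, -, -, h4, h5⟩ | h
  · exact Or.inl ⟨h1, h2, Q, h3, h4, h5⟩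
  · exact Or.inr h

theorem SpecM.mono {H K : Subgroup (GL (Fin m ⊕ Fin m) F)} (h : SpecM m F K) (hHK : H ≤ K) : SpecM m F H := by
  rcases h with ⟨h1, h2, Q, h3, h6, h7, h4, h5⟩ | ⟨h1, K', h2, h3, h4⟩
  · exact Or.inl ⟨h1, h2, Q, h3, h6, h7, h4, hHK.trans h5⟩
  · exact Or.inr ⟨h1, K', h2, h3, hHK.trans h4⟩

/-- `SpecM`, with the alternating property -/
def SpecN (m : ℕ) (F : Type u) [Field F] [Fintype F] (H : Subgroup (GL (Fin m ⊕ Fin m) F)) : Prop :=
  (Even m ∧ Even (Fintype.card F) ∧ ∃ Q : QuadraticForm F (Fin m ⊕ Fin m → F), IsNondegenerateQuadraticForm (⇑Q) ∧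
    LieClassical.OrthCore.Nondeg Q ∧ ¬ H955.IsPlus Q ∧
    (∀ u v, QuadraticMap.polar (⇑Q) u v = sympForm m F u v) ∧ H ≤ isometryGroup F (⇑Q)) ∨
  (m = 2 ∧ ∃ K : Subalgebra F (Matrix (Fin m ⊕ Fin m) (Fin m ⊕ Fin m) F), IsFieldSubalgebra 2 K ∧
    IsSelfAdjointFor (sympForm m F) K ∧ (∀ k ∈ K, ∀ v : (Fin m ⊕ Fin m → F), sympForm m F (k *ᵥ v) v = 0) ∧
    H ≤ subalgebraNormalizer K)

theorem SpecN.specM {H : Subgroup (GL (Fin m ⊕ Fin m) F)} (h : SpecN m F H) : SpecM m F H := by
  rcases h with h | ⟨h1, K, h2, h3, -, h4⟩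
  · exact Or.inl h
  · exact Or.inr ⟨h1, K, h2, h3, h4⟩

/-- `25` does not divide `|N(R)|`, `R` of type `2^{1+4}`. -/
theorem not_25 {ι : Type} [Fintype ι] [DecidableEq ι] [Nonempty ι] {R : Subgroup (GL ι F)}
    (hR : IsPGroup 2 R) (habs : ActsAbsolutelyIrreducibly (matrixSet R)) (C : H920.Coord R 2 2)
    (hF : ¬ 5 ∣ Nat.card F - 1) : ¬ 25 ∣ Nat.card (subgroupNormalizer R) := by
  classical
  intro h
  have hfin : Finite (GL ι F) := inferInstance
  have h5 : Fact (Nat.Prime 5) := ⟨by norm_num⟩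
  obtain ⟨P, hP⟩ := Sylow.exists_subgroup_card_pow_prime (G := subgroupNormalizer R) 5 (n := 2) h
  have hex : ∀ g : P, ∃ A ∈ Matrix.symplecticGroup (Fin 2) (ZMod 2), C.Ind ((g : subgroupNormalizer R) : GL ι F) A :=
    fun g => C.exists_ind_of_mem (g : subgroupNormalizer R).2
  choose A hA hind using hex
  let φ : P →* Matrix.symplecticGroup (Fin 2) (ZMod 2) := MonoidHom.mk' (fun g => ⟨A g, hA g⟩) (by
    intro x y
    apply Subtype.ext
    exact (hind (x * y)).unique ((hind x).mul (hind y)))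
  have hinj : Function.Injective φ := by
    rw [injective_iff_map_eq_one]
    intro g hg
    have hg1 : A g = 1 := congrArg Subtype.val hg
    have hi := hind g
    rw [hg1] at hi
    obtain ⟨x, hx⟩ := C.mem_of_ind_one habs hi
    have h1 : ((g : subgroupNormalizer R) : GL ι F) ∈ (R ⊔ scalars ι F : Subgroup (GL ι F)) := by
      have h2 := Subgroup.mul_mem_sup x.2 hx
      rwa [mul_inv_cancel_left] at h2
    have h2 : orderOf ((g : subgroupNormalizer R) : GL ι F) ∣ Nat.card (R ⊔ scalars ι F : Subgroup (GL ι F)) := by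
      rw [← Subgroup.orderOf_mk _ h1]
      exact orderOf_dvd_natCard _
    have h3 := h2.trans (H251.GeoCard.card_sup_dvd _ _ fun z hz g => H251.GeoCard.scalars_central hz g)
    rw [Subgroup.orderOf_coe, Subgroup.orderOf_coe] at h3
    have h4 : orderOf g ∣ 5 ^ 2 := by
      rw [← hP]
      exact orderOf_dvd_natCard g
    obtain ⟨j, -, hj⟩ := (Nat.dvd_prime_pow (by norm_num)).1 h4
    rcases Nat.eq_zero_or_pos j with h0 | h0
    · rw [h0, pow_zero] at hj
      exact orderOf_eq_one_iff.1 hj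
    · exfalso
      rw [hj] at h3
      have h5' : 5 ∣ Nat.card R * Nat.card (scalars ι F) := (dvd_pow_self 5 (by omega)).trans h3
      rcases (show Nat.Prime 5 by norm_num).dvd_mul.1 h5' with h6 | h6
      · obtain ⟨a, ha⟩ := (IsPGroup.iff_card).1 hR
        rw [ha] at h6
        have := (show Nat.Prime 5 by norm_num).dvd_of_dvd_pow h6
        omega
      · exact hF (h6.trans H251.GeoCard.card_scalars_dvd)
  have h1 := Subgroup.card_dvd_of_injective φ hinj
  rw [hP, LieClassical.SympCount.card_symplecticGroup, ZMod.card] at h1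
  revert h1
  decide

/-- coordinates of the symplectic type groups of `Sp` -/
theorem exists_coord_symp {k : ℕ} {R : Subgroup (GL (Fin m ⊕ Fin m) F)}
    (habs : ActsAbsolutelyIrreducibly (matrixSet R)) (hR : IsSymplecticTypeGroup 2 R)
    (hk : 1 ≤ k) (hcard : Fintype.card (Fin m ⊕ Fin m) = 2 ^ k) (hm : 1 ≤ m)
    (hZ : Nat.card (Subgroup.center R) = 2) : Nonempty (H920.Coord R 2 k) := by
  have hfin : Finite (GL (Fin m ⊕ Fin m) F) := inferInstance
  have hne : Nonempty (Fin m ⊕ Fin m) := ⟨Sum.inl ⟨0, by omega⟩⟩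
  have hpr := Fact.mk hR.prime
  have hcomm : ∀ x ∈ R, ∀ y ∈ R, x * y * x⁻¹ * y⁻¹ ∈ scalars (Fin m ⊕ Fin m) F := by
    intro x hx y hy
    exact H920.mem_scalars_of_mem_center habs (H921.commutator_mem_center hR (fun h => absurd h (by decide)) ⟨x, hx⟩ ⟨y, hy⟩)
  have hpow : ∀ x ∈ R, x ^ 2 ∈ scalars (Fin m ⊕ Fin m) F := by
    have hexp : Monoid.exponent R = 4 := by rw [hR.exponent_eq]; norm_num
    have h4 : ∀ q : R, q ^ 4 = 1 := fun q => by rw [← hexp]; exact Monoid.pow_exponent_eq_one q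
    have : Nontrivial (Subgroup.center R) := Finite.one_lt_card_iff_nontrivial.1 (by rw [hZ]; norm_num)
    obtain ⟨z, hz⟩ := exists_ne (1 : Subgroup.center R)
    have hz2 : orderOf z = 2 := by
      have h1 : orderOf z ∣ 2 := by rw [← hZ]; exact orderOf_dvd_natCard z
      rcases (Nat.dvd_prime Nat.prime_two).1 h1 with h2 | h2
      · exact absurd (orderOf_eq_one_iff.1 h2) hz
      · exact h2
    have hz2' : orderOf (z : R) = 2 := by rw [Subgroup.orderOf_coe, hz2]
    intro x hx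
    have hst := (Cfsg.Agent.ClassificationK.SymplecticExpFour.structure_exp_four
      ⟨hR.pGroup, hR.cyclic_of_characteristic⟩ h4 hz2' z.2).2.1 ⟨x, hx⟩
    rcases hst with h | h
    · have h5 : x ^ 2 = 1 := congrArg Subtype.val h
      rw [h5]; exact Subgroup.one_mem _
    · have h5 : x ^ 2 = ((z : R) : GL (Fin m ⊕ Fin m) F) := congrArg Subtype.val h
      rw [h5]; exact H920.mem_scalars_of_mem_center habs z.2
  exact H920.exists_coord habs hcomm hR.prime hk hpow hcard

/-- odd prime divisors of `q ^ 2 + 1` -/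
theorem pp_four {q t : ℕ} (ht : t.Prime) (ht2 : t ≠ 2) (hd : t ∣ q ^ 2 + 1) : PP q 4 t := by
  refine ⟨ht, ?_⟩
  have := Fact.mk ht
  have h1 : (q : ZMod t) ^ 2 = -1 := by
    have h2 : ((q ^ 2 + 1 : ℕ) : ZMod t) = 0 := (ZMod.natCast_eq_zero_iff _ _).2 hd
    push_cast at h2
    exact eq_neg_of_add_eq_zero_left h2
  have hne : (-1 : ZMod t) ≠ 1 := by
    intro h
    have h2 : ((2 : ℕ) : ZMod t) = 0 := by
      push_cast
      have : (1 : ZMod t) + 1 = 0 := by
        nth_rw 1 [← h]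
        ring
      rw [← this]; norm_num
    rw [ZMod.natCast_eq_zero_iff] at h2
    exact ht2 ((Nat.prime_dvd_prime_iff_eq ht Nat.prime_two).1 h2)
  have h3 := orderOf_eq_prime_pow (x := (q : ZMod t)) (p := 2) (n := 1) (by rw [pow_one, h1]; exact hne) (by
    rw [show 2 ^ (1 + 1) = 2 * 2 by norm_num, pow_mul, h1]
    ring)
  rw [h3]
  norm_num

/-- `q ^ 2 + 1` for `q` odd, all odd prime divisors equal to `5` -/
theorem dvd_25 {q : ℕ} (hq : Odd q) (h1 : 1 < q) (h3 : q ≠ 3) (h : ∀ t, t.Prime → t ≠ 2 → t ∣ q ^ 2 + 1 → t = 5) :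
    25 ∣ q ^ 2 + 1 := by
  obtain ⟨k, rfl⟩ := hq
  set c := 2 * k * (k + 1) + 1 with hc
  have hqc : (2 * k + 1) ^ 2 + 1 = 2 * c := by rw [hc]; ring
  have hc2 : ¬ 2 ∣ c := by
    rw [hc, mul_assoc]
    omega
  have hcp : ∀ t, t.Prime → t ∣ c → t = 5 := by
    intro t ht htc
    refine h t ht ?_ (by rw [hqc]; exact htc.mul_left 2)
    rintro rfl
    exact hc2 htc
  have hk : 2 ≤ k := by omega
  have hc5 : 5 < c := by
    rw [hc]; nlinarith
  obtain ⟨t, ht, htc⟩ := Nat.exists_prime_and_dvd (n := c) (by omega)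
  obtain rfl := hcp t ht htc
  obtain ⟨d, hd⟩ := htc
  obtain ⟨s, hs, hsd⟩ := Nat.exists_prime_and_dvd (n := d) (by omega)
  obtain rfl := hcp s hs (by rw [hd]; exact hsd.mul_left 5)
  obtain ⟨a, ha⟩ := hsd
  rw [hqc, hd, ha]
  exact ⟨2 * a, by ring⟩

/-- **The symplectic row, cyclic primes.** -/
theorem row_cyc (hm : 2 ≤ m) (h22 : ¬ (m = 2 ∧ Fintype.card F = 2)) (h32 : ¬ (m = 3 ∧ Fintype.card F = 2))
    (h23 : ¬ (m = 2 ∧ Fintype.card F = 3))
    {H M : Subgroup (GL (Fin m ⊕ Fin m) F)} (hM : InSymplecticClass m F M) (hHM : H ≤ M)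
    (h1 : HitsN H (2 * m)) (h2 : 3 ≤ m → HitsN H (2 * m - 2)) (h3 : 3 ≤ m → HitsN H (oddE m))
    (h25 : m = 2 → (Fintype.card F).Prime → 25 ∣ Nat.card F ^ 2 + 1 → 25 ∣ Nat.card H) : SpecN m F H := by
  have hq := one_lt_q F
  obtain ⟨p, f, hp, hf, hpF⟩ := exists_char F
  have hpF' : Fintype.card F = p ^ f := by rw [← hpF, Nat.card_eq_fintype_card]
  have hι : Fintype.card (Fin m ⊕ Fin m) = 2 * m := card_sum_fin
  have hne : Nonempty (Fin m ⊕ Fin m) := ⟨Sum.inl ⟨0, by omega⟩⟩
  obtain ⟨r, hr⟩ := Cfsg.Agent.H163.PG.exists_ppd (p := p) (f := f) (k := 2 * m) hp.two_le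
    (by nlinarith) (by
      rintro ⟨h2, h6⟩
      apply h32
      have h3 : f * m = 3 := by
        have : f * (2 * m) = 2 * (f * m) := by ring
        omega
      have h4 : m ∣ 3 := Dvd.intro_left f h3
      have h5 : m = 3 := by
        rcases (Nat.dvd_prime Nat.prime_three).1 h4 with h | h
        · omega
        · exact h
      have h6 : f = 1 := by subst h5; omega
      exact ⟨h5, by rw [hpF', h2, h6, pow_one]⟩)
  have hod : Od (Fintype.card F) (2 * m) r := by
    rw [hpF']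
    exact Od.of_ppd hp hf (by omega) hr
  have hrq : PP (Nat.card F) (2 * m) r := pp_of_od hod
  have hrn : NDF (Fintype.card F) r := by
    rw [hpF']
    refine ndf_of_lt hp hf ?_
    have h4 := hr.lt
    have h5 : f * 1 ≤ f * (2 * m) := Nat.mul_le_mul_left f (by omega)
    omega
  have hrH := h1 r hrq hrn
  obtain ⟨k1, k2, k5, k7⟩ := not_le_of_irr hm hp hf hpF' hr hrH
  obtain ⟨g, hgH, hgr, hg1⟩ : ∃ g ∈ H, g ^ r = 1 ∧ g ≠ 1 := by
    have := Fact.mk hod.prime
    have hfin : Finite (GL (Fin m ⊕ Fin m) F) := inferInstance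
    obtain ⟨g, hg⟩ := exists_prime_orderOf_dvd_card' r hrH
    refine ⟨g, g.2, ?_, ?_⟩
    · rw [← Subgroup.coe_pow, ← hg, pow_orderOf_eq_one]; rfl
    · intro h1
      have hg2 : g = 1 := Subtype.ext h1
      rw [hg2, orderOf_one] at hg
      exact hod.prime.one_lt.ne hg
  -- quadratic fields, `m ≥ 3`
  have kfield : ∀ (s : ℕ) (K : Subalgebra F (Matrix (Fin m ⊕ Fin m) (Fin m ⊕ Fin m) F)), s.Prime →
      IsFieldSubalgebra s K → H ≤ subalgebraNormalizer K → H ≤ spGL m F → m = 2 ∧ s = 2 := by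
    intro s K hs hK hHK hHI
    have hsn : s ∣ 2 * m := by
      let _ : Field K := (H912.isField_of_fieldSub hK).toField
      have h5 := Module.finrank_mul_finrank F K (Fin m ⊕ Fin m → F)
      rw [hK.finrank_eq, Module.finrank_fintype_fun_eq_card, hι] at h5
      exact Dvd.intro _ h5
    by_cases hm2 : m = 2
    · refine ⟨hm2, ?_⟩
      rw [hm2] at hsn
      have : s ∣ 2 ^ 2 := by norm_num; exact hsn
      exact (Nat.prime_dvd_prime_iff_eq hs Nat.prime_two).1 (hs.dvd_of_dvd_pow this)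
    · exfalso
      have hm3 : 3 ≤ m := by omega
      have hs2 : s = 2 := by
        by_cases hexc : Nat.card F = 2 ∧ 2 * m - 2 = 6
        · have hm4 : m = 4 := by omega
          rw [hm4] at hsn
          have : s ∣ 2 ^ 3 := by norm_num; exact hsn
          exact (Nat.prime_dvd_prime_iff_eq hs Nat.prime_two).1 (hs.dvd_of_dvd_pow this)
        · obtain ⟨r₁, hr₁, hn₁⟩ := exists_ppn (F := F) (e := 2 * m - 2) (by omega) hexc
          have h5 := H884.El.ext_cases hs hK hHK (by rw [hι]; exact hsn) hr₁ (by rw [hι]; omega) (h2 hm3 _ hr₁ hn₁)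
          exact H884.El.eq_two (by omega) hs hsn (hr₁.lt (by omega)) h5
      subst hs2
      have ho3 := oddE_odd (m := m) (by omega)
      have he33 : 3 ≤ oddE m := by
        rcases Nat.even_or_odd m with he | ho
        · rw [oddE_of_even he]
          obtain ⟨k, hk⟩ := he
          omega
        · rw [oddE_of_odd ho]; exact hm3
      have he3n : 2 * m < 4 * oddE m := by
        rcases Nat.even_or_odd m with he | ho
        · rw [oddE_of_even he]; omega
        · rw [oddE_of_odd ho]; omega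
      obtain ⟨r₃, hr₃, hn₃⟩ := exists_ppn (F := F) (e := oddE m) he33 (by
        rintro ⟨-, h⟩
        rw [h] at ho3
        exact absurd ho3 (by decide))
      have hfin : Finite (GL (Fin m ⊕ Fin m) F) := inferInstance
      have := Fact.mk hr₃.prime
      obtain ⟨z, hz⟩ := exists_prime_orderOf_dvd_card' r₃ (h3 hm3 _ hr₃ hn₃)
      refine no_quadratic_symp (g := (z : GL (Fin m ⊕ Fin m) F)) (hHI z.2) hr₃ ho3 he33 he3n ?_ ?_ hK (hHK z.2)
      · rw [← Subgroup.coe_pow, ← hz, pow_orderOf_eq_one]; rfl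
      · intro h1
        have hg2 : z = 1 := Subtype.ext h1
        rw [hg2, orderOf_one] at hz
        exact hr₃.prime.one_lt.ne hz
  rcases hM with hM | hM | hM | hM | hM
  · rcases hM with hM | hM | hM | hM | hM | hM | hM
    · obtain ⟨W, hW0, hW, rfl⟩ := hM
      exact absurd (hHM.trans inf_le_left) (k1 W hW0 (totallySingular_ne_top (by omega) hW))
    · obtain ⟨W, hW0, hW, hW2, rfl⟩ := hM
      refine absurd (hHM.trans inf_le_left) (k1 W hW0 ?_)
      rintro rfl
      rw [finrank_top, Module.finrank_fintype_fun_eq_card, hι] at hW2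
      omega
    · obtain ⟨t, k, D, hD, rfl⟩ := hM
      exact absurd (hHM.trans inf_le_left) (k2 t k D hD.decomp)
    · obtain ⟨D, -, hD, -, rfl⟩ := hM
      exact absurd (hHM.trans inf_le_left) (k2 2 m D hD)
    · obtain ⟨F₀, s, P, ζ, hs, hcard, -, -, rfl⟩ := hM
      exact absurd (hHM.trans inf_le_left) (k5 F₀ s P hs hcard)
    · obtain ⟨R, p', k, hR, habs, -, hp', hodd, hFp, hRc, hZ, -, rfl⟩ := hM
      exfalso
      have hfin : Finite (GL (Fin m ⊕ Fin m) F) := inferInstance
      have hcard := Cfsg.Agent.H921.card_eq_pow_of_center_prime hR habs hZ hRc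
      have hk : 1 ≤ k := by
        rcases Nat.eq_zero_or_pos k with h | h
        · rw [h, pow_zero, hι] at hcard
          omega
        · exact h
      have hHR : H ≤ subgroupNormalizer R := hHM.trans inf_le_left
      have hsp : ∀ {t : ℕ}, t.Prime → t ∣ Nat.card H → t = 2 ∨ t ∣ Nat.card F - 1 ∨ t ≤ 2 ^ k + 1 := fun ht hd =>
        symp_prime (by omega) hHR habs hR hk hcard hZ ht hd
      have hpp : ∀ {e t : ℕ}, 2 ≤ e → PP (Nat.card F) e t → t ∣ Nat.card H → t ≤ 2 * m + 1 := by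
        intro e t he ht hd
        have hlt := ht.lt (by omega)
        rcases hsp ht.prime hd with h | h | h
        · omega
        · have h5 : t ∣ Nat.card F ^ 1 - 1 := by rwa [pow_one]
          rw [ht.dvd_iff (by omega)] at h5
          have := Nat.le_of_dvd one_pos h5
          omega
        · rwa [← hcard, hι] at h
      have hF2 : Nat.card F ≠ 2 := by
        rw [Nat.card_eq_fintype_card, hFp]
        rintro rfl
        exact absurd hodd (by decide)
      by_cases hm2 : m = 2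
      · subst hm2
        have hk2 : k = 2 := by
          rw [hι] at hcard
          exact (Nat.pow_right_injective (le_refl 2) (show 2 ^ 2 = 2 ^ k from hcard)).symm
        subst hk2
        have hFq : Nat.card F = p' := by rw [Nat.card_eq_fintype_card, hFp]
        have hq2 : Odd (Nat.card F) := hFq ▸ hodd
        have hndf : ∀ t : ℕ, 4 < t → NDF (Fintype.card F) t := fun t ht => by
          have h5 := ndf_of_lt (u := t) hp' (le_refl 1) (by omega)
          rwa [pow_one, ← hFp] at h5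
        have hq25 : 25 ∣ Nat.card F ^ 2 + 1 := by
          refine dvd_25 hq2 hq (fun h => h23 ⟨rfl, by rw [← Nat.card_eq_fintype_card]; exact h⟩) fun t ht ht2 htd => ?_
          have ht4 := pp_four ht ht2 htd
          have hlt := ht4.lt (by norm_num)
          have h5 := hpp (by norm_num) ht4 (h1 t ht4 (hndf t hlt))
          omega
        obtain ⟨C⟩ := exists_coord_symp habs hR (by norm_num) hcard (by norm_num) hZ
        refine not_25 hR.pGroup habs C ?_ ((h25 rfl (by rw [hFp]; exact hp') hq25).trans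
          (Subgroup.card_dvd_of_le hHR))
        intro h5
        have h6 : PP (Nat.card F) 4 5 := pp_four (by norm_num) (by norm_num) ((by norm_num : 5 ∣ 25).trans hq25)
        have h7 := (h6.dvd_iff (by omega) 1).1 (by rwa [pow_one])
        have := Nat.le_of_dvd one_pos h7
        omega
      · have hm3 : 3 ≤ m := by omega
        have hme : Even m := by
          rw [hι] at hcard
          match k, hcard with
          | 0, h => rw [pow_zero] at h; omega
          | 1, h => omega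
          | k + 2, h =>
            rw [pow_succ, pow_succ] at h
            exact ⟨2 ^ k, by omega⟩
        have hm4 : 4 ≤ m := by
          obtain ⟨c, hc⟩ := hme
          omega
        obtain ⟨r₁, hr₁, hn₁⟩ := exists_ppn (F := F) (e := 2 * m - 2) (by omega) (fun h => hF2 h.1)
        obtain ⟨r₃, hr₃, hn₃⟩ := exists_ppn (F := F) (e := m - 1) (by omega) (fun h => hF2 h.1)
        have h5 := hpp (by omega) hr₁ (h2 hm3 _ hr₁ hn₁)
        have h6 := hpp (by omega) hr₃ (by
          have := h3 hm3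
          rw [oddE_of_even hme] at this
          exact this _ hr₃ hn₃)
        exact H884.El.false_of_even hm4 hme hr₁ hr₃ (by omega) (by omega)
    · obtain ⟨Q, hodd, hQ, hpol, rfl⟩ := hM
      have hHQ : H ≤ isometryGroup F Q := fun h hh =>
        mem_isometry (by omega) hpol (hHM hh).1 (hHM hh).2
      obtain ⟨Q', hQ', hnd⟩ := Cfsg.Agent.H883.Bridge.exists_quadraticForm hQ
      have hfin : finrank F (Fin m ⊕ Fin m → F) = 2 * m := by rw [Module.finrank_fintype_fun_eq_card, hι]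
      rw [← hQ'] at hHQ
      obtain ⟨x, hxH, hiso, -, hx1⟩ := exists_elt hHQ hrq (by omega) hrH
      obtain ⟨hcm, hcmP⟩ := hiso.even_case hnd (H884.El.lin_ne_one hx1) hrq (even_two_mul m) (by omega)
      have e1 : H951.cm (lin x) = ⊤ := Submodule.eq_top_of_finrank_eq (by rw [hcm, hfin])
      rw [e1] at hcmP
      by_cases hme : Even m
      · exact Or.inl ⟨hme, Nat.not_odd_iff_even.1 hodd, Q', hQ' ▸ hQ, hnd,
          fun hP => hcmP ((H955.isPlus_iff_of_equiv Submodule.topEquiv fun _ => rfl).2 hP), fun u v => by rw [hQ']; exact hpol u v, hHQ⟩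
      exfalso
      have hmo : Odd m := Nat.not_even_iff_odd.1 hme
      have hm3 : 3 ≤ m := by
        obtain ⟨k, hk⟩ := hmo
        omega
      obtain ⟨r₃, hr₃, hn₃⟩ := exists_ppn (F := F) (e := m) hm3 (by
        rintro ⟨-, h⟩
        rw [h] at hmo
        exact absurd hmo (by decide))
      have h3' := h3 hm3
      rw [oddE_of_odd hmo] at h3'
      obtain ⟨z, hzH, hziso, -, hz1⟩ := exists_elt hHQ hr₃ (by omega) (h3' _ hr₃ hn₃)
      obtain ⟨hzcm, hzP, -⟩ := hziso.odd_case hnd (H884.El.lin_ne_one hz1) hr₃ hmo (by omega)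
      have e2 : H951.cm (lin z) = ⊤ := Submodule.eq_top_of_finrank_eq (by rw [hzcm, hfin])
      rw [e2] at hzP
      exact hcmP hzP
  · obtain ⟨s, K, hs, hK, hsa, halt, rfl⟩ := hM
    obtain ⟨hm2, rfl⟩ := kfield s K hs hK (hHM.trans inf_le_left) (hHM.trans inf_le_right)
    exact Or.inr ⟨hm2, K, hK, hsa, halt, hHM.trans inf_le_left⟩
  · obtain ⟨K, -, hK, -, hnsa, rfl⟩ := hM
    exfalso
    obtain ⟨hm2, -⟩ := kfield 2 K Nat.prime_two hK (hHM.trans inf_le_left) (hHM.trans inf_le_right)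
    exact hnsa (selfAdjoint_of_irr (by rw [hm2]; decide) (by omega) (hHM hgH).2 hrq hgr hg1 hK (hHM hgH).1)
  · obtain ⟨n₁, n₂, e, P, f₁, f₂, -, hn2, hf₁, -, -, rfl⟩ := hM
    exfalso
    have hc := Fintype.card_congr e
    rw [hι, Fintype.card_prod, Fintype.card_fin, Fintype.card_fin] at hc
    refine H884.El.kill_tensor e P (hHM.trans inf_le_left) (two_le_of_symp hf₁ ?_) (by omega) (by rw [hι, hc]) hrq
      (by rw [hι]; omega) hrH
    rintro rfl
    rw [zero_mul] at hc
    omega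
  · obtain ⟨k, t, e, P, f₁, -, -, ht, -, hf₁, -, rfl⟩ := hM
    refine absurd (hHM.trans inf_le_left) (k7 k t e P (two_le_of_symp hf₁ ?_) (by omega))
    rintro rfl
    have h1 := Fintype.card_congr e
    rw [hι, Fintype.card_fun, Fintype.card_fin, Fintype.card_fin, zero_pow (by omega)] at h1
    omega

/-! ### `PSp` -/

theorem hitsN_of {F : Type} [Field F] [Fintype F] {m : ℕ} {M : Subgroup (PSp m F)} (hM : ¬ IGap (PSp m F) M) {e : ℕ}
    (he : 3 ≤ e) (h : (Even e ∧ e ≤ 2 * m ∧ m < e) ∨ (Odd e ∧ e ≤ m ∧ m < 2 * e)) : HitsN (pre M) e :=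
  fun _ hr hn => (dvd_of_not_iGap hM (cyc_psp' he h hr hn)).trans (card_pre_eq M)

/-- **Cyclic gaps, symplectic groups**, with the alternating property. -/
theorem igap_pspN {F : Type} [Field F] [Fintype F] {m : ℕ} (hm : 2 ≤ m) (h22 : ¬ (m = 2 ∧ Fintype.card F = 2))
    (h32 : ¬ (m = 3 ∧ Fintype.card F = 2)) (h23 : ¬ (m = 2 ∧ Fintype.card F = 3)) {M : Subgroup (PSp m F)}
    (hMT : M ≠ ⊤) : IGap (PSp m F) M ∨ InSymplecticResidualClass (pre M) ∨ SpecN m F (pre M) := by
  by_cases hM : IGap (PSp m F) M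
  · exact Or.inl hM
  right
  rcases Cfsg.Agent.S5662.result m hm h22 (pre M) (pre_le M) (by
    rw [sup_eq_left.2 (scalars_le_pre M)]
    exact pre_ne hMT) with ⟨K, hK, hle⟩ | h
  · right
    refine row_cyc hm h22 h32 h23 hK hle (hitsN_of hM (by omega) (Or.inl ⟨even_two_mul m, le_rfl, by omega⟩))
      (fun h3 => hitsN_of hM (by omega) (Or.inl ⟨⟨m - 1, by omega⟩, by omega, by omega⟩))
      (fun h3 => ?_) (fun hm2 hp h25 => ?_)
    · rcases Nat.even_or_odd m with he | ho
      · rw [oddE_of_even he]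
        obtain ⟨k, hk⟩ := he
        exact hitsN_of hM (by omega) (Or.inr ⟨⟨k - 1, by omega⟩, by omega, by omega⟩)
      · rw [oddE_of_odd ho]
        exact hitsN_of hM h3 (Or.inr ⟨ho, le_rfl, by omega⟩)
    · subst hm2
      have h5 : PP (Nat.card F) 4 5 :=
        pp_four (by norm_num) (by norm_num) ((by norm_num : 5 ∣ 25).trans h25)
      have hn : NDF (Fintype.card F) 5 := by
        have h6 := ndf_of_lt (u := 5) hp (le_refl 1) (by omega)
        rwa [pow_one] at h6
      have hcyc : Cyc (PSp 2 F) 5 := cyc_psp' (by norm_num) (Or.inl ⟨by decide, by norm_num, by norm_num⟩) h5 hn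
      refine (pow_dvd_of_not_iGap hM hcyc (k := 2) ?_).trans (card_pre_eq M)
      have h6 : 5 ^ 2 ∣ Nat.card (Matrix.symplecticGroup (Fin 2) F) := by
        rw [LieClassical.SympCount.card_symplecticGroup]
        refine Dvd.dvd.mul_left ?_ _
        refine dvd_trans ?_ (Finset.dvd_prod_of_mem _ (Finset.mem_range.2 (by norm_num : 1 < 2)))
        have h7 : Fintype.card F ^ (2 * (1 + 1)) - 1 = (Fintype.card F ^ 2 + 1) * (Fintype.card F ^ 2 - 1) := by
          rw [show 2 * (1 + 1) = 2 * 2 by norm_num, pow_mul]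
          have := Nat.sq_sub_sq (Fintype.card F ^ 2) 1
          rwa [one_pow] at this
        rw [h7]
        rw [Nat.card_eq_fintype_card] at h25
        exact h25.mul_right _
      rw [Subgroup.card_eq_card_quotient_mul_card_subgroup
        (Subgroup.center (Matrix.symplecticGroup (Fin 2) F)),
        Cfsg.Agent.S0246.result (q := Fintype.card F) rfl 2 (by norm_num)] at h6
      refine Nat.Coprime.dvd_of_dvd_mul_right ?_ h6
      have h8 : Nat.gcd 2 (Fintype.card F - 1) = 1 ∨ Nat.gcd 2 (Fintype.card F - 1) = 2 :=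
        (Nat.dvd_prime Nat.prime_two).1 (Nat.gcd_dvd_left _ _)
      rcases h8 with h8 | h8 <;> rw [h8] <;> norm_num
  · exact Or.inl h

/-- **Cyclic gaps, symplectic groups.** A proper subgroup `M` of `PSp_2m(q)`, `(m, q) ≠ (2, 2), (3, 2), (2, 3)`:
some cyclic prime of `PSp_2m(q)` divides the index of `M`, or the preimage of `M` is in the residual class, or it
fixes a quadratic form of minus type (`m`, `q` even), or it normalises a self-adjoint quadratic field (`m = 2`). -/
theorem igap_psp {F : Type} [Field F] [Fintype F] {m : ℕ} (hm : 2 ≤ m) (h22 : ¬ (m = 2 ∧ Fintype.card F = 2))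
    (h32 : ¬ (m = 3 ∧ Fintype.card F = 2)) (h23 : ¬ (m = 2 ∧ Fintype.card F = 3)) {M : Subgroup (PSp m F)}
    (hMT : M ≠ ⊤) : IGap (PSp m F) M ∨ InSymplecticResidualClass (pre M) ∨ SpecM m F (pre M) := by
  rcases igap_pspN hm h22 h32 h23 hMT with h | h | h
  · exact Or.inl h
  · exact Or.inr (Or.inl h)
  · exact Or.inr (Or.inr h.specM)

/-- **`m ≥ 3`.** -/
theorem igap_psp_three {F : Type} [Field F] [Fintype F] {m : ℕ} (hm : 3 ≤ m) (h32 : ¬ (m = 3 ∧ Fintype.card F = 2))
    {M : Subgroup (PSp m F)} (hMT : M ≠ ⊤) :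
    IGap (PSp m F) M ∨ InSymplecticResidualClass (pre M) ∨
      (Even m ∧ Even (Fintype.card F) ∧ ∃ Q : QuadraticForm F (Fin m ⊕ Fin m → F),
        IsNondegenerateQuadraticForm (⇑Q) ∧ LieClassical.OrthCore.Nondeg Q ∧ ¬ H955.IsPlus Q ∧
        (∀ u v, QuadraticMap.polar (⇑Q) u v = sympForm m F u v) ∧ pre M ≤ isometryGroup F (⇑Q)) := by
  rcases igap_psp (by omega) (fun h => by omega) h32 (fun h => by omega) hMT with h | h | h | h
  · exact Or.inl h
  · exact Or.inr (Or.inl h)
  · exact Or.inr (Or.inr h)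
  · exact absurd h.1 (by omega)

/-- **`m = 2`.** -/
theorem igap_psp_two {F : Type} [Field F] [Fintype F] (hF : 4 ≤ Fintype.card F) {M : Subgroup (PSp 2 F)}
    (hMT : M ≠ ⊤) : IGap (PSp 2 F) M ∨ InSymplecticResidualClass (pre M) ∨ SpecM 2 F (pre M) :=
  igap_psp le_rfl (fun h => by omega) (fun h => by omega) (fun h => by omega) hMT

end Cfsg.Agent.H81.CycS
end

-- part: H81/CycSInd
section
prune_inst 0x1400400100210000018000010001c4282000000004b00002900000004800c00a0000620b03010121080004440380060020000004000000000000000011801a00002400002000100000000000080000000000000000000000000000000000000000000000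
set_option linter.all false
open scoped Cfsg.Agent.FastGrp

/-!
# The indices of the special overgroups in the symplectic groups (for S3561, S3679; helper81)

* `card_minus`   : `|O^-_2m(q)|` for an arbitrary nondegenerate form of minus type;
* `ind_minus`    : `q^m (q^m - 1) ∣ 2 |PSp_2m(q) : M|` if the preimage of `M` fixes a form of minus type;
* `ind_field`    : `q^2 (q^2 - 1) ∣ 2 |PSp_4(q) : M|` if it normalises a self-adjoint quadratic field;
* `ind_specN`    : both.
-/

set_option autoImplicit false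

namespace Cfsg.Agent.H81.CycS

open Cfsg Cfsg.Geo Module
open Cfsg.Agent.ClassicalGeometry.SympBasic Cfsg.Agent.H876 Cfsg.Agent.H931 Cfsg.Agent.H262.El
open Cfsg.Agent.LieClassical.OrthCore Cfsg.Agent.LieClassical.OrthFinite Cfsg.Agent.LieClassical.QuadForms
open scoped Matrix MatrixGroups

universe u

section minus

variable {F : Type u} [Field F]

/-- isometric spaces have isomorphic isometry groups -/
theorem card_O_congr {V W : Type*} [AddCommGroup V] [Module F V] [AddCommGroup W] [Module F W]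
    {Q : QuadraticForm F V} {Q' : QuadraticForm F W} (e : V ≃ₗ[F] W) (he : ∀ v, Q' (e v) = Q v) :
    Nat.card (O Q) = Nat.card (O Q') := by
  have he' : ∀ w, Q (e.symm w) = Q' w := fun w => by rw [← he, LinearEquiv.apply_symm_apply]
  refine Nat.card_congr
    { toFun := fun g => ⟨(e.symm.trans (g : V ≃ₗ[F] V)).trans e, fun w => by
        show Q' (e ((g : V ≃ₗ[F] V) (e.symm w))) = Q' w
        rw [he, g.2, he']⟩
      invFun := fun g => ⟨(e.trans (g : W ≃ₗ[F] W)).trans e.symm, fun v => by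
        show Q (e.symm ((g : W ≃ₗ[F] W) (e v))) = Q v
        rw [he', g.2, he]⟩
      left_inv := fun g => by
        apply Subtype.ext
        apply LinearEquiv.ext
        intro v
        show e.symm (e ((g : V ≃ₗ[F] V) (e.symm (e v)))) = _
        rw [LinearEquiv.symm_apply_apply, LinearEquiv.symm_apply_apply]
      right_inv := fun g => by
        apply Subtype.ext
        apply LinearEquiv.ext
        intro v
        show e (e.symm ((g : W ≃ₗ[F] W) (e (e.symm v)))) = _
        rw [LinearEquiv.apply_symm_apply, LinearEquiv.apply_symm_apply] }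

variable [Fintype F]

/-- the order of `O^-_2m(q)` -/
theorem card_minus {ι : Type} [Fintype ι] [DecidableEq ι] {m : ℕ} (hm : 1 ≤ m) (hι : Fintype.card ι = 2 * m)
    {Q : QuadraticForm F (ι → F)} (hQ : Nondeg Q) (hP : ¬ H955.IsPlus Q) :
    Nat.card (isometryGroup F (⇑Q)) = 2 * Fintype.card F ^ (m * (m - 1)) * (Fintype.card F ^ m + 1) *
      ∏ i ∈ Finset.range (m - 1), (Fintype.card F ^ (2 * (i + 1)) - 1) := by
  obtain ⟨a, b, hab⟩ := H955.exists_aniso_coeff F
  obtain ⟨k, rfl⟩ : ∃ k, m = k + 1 := ⟨m - 1, by omega⟩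
  obtain ⟨e, he⟩ := H955.exists_minus_equiv hab k Q hQ (by rw [Module.finrank_fintype_fun_eq_card, hι]) hP
  rw [← Cfsg.Agent.S0288.result rfl (k + 1) hm a b hab, Nat.card_congr (isometryEquiv Q).toEquiv,
    card_O_congr e he, ← Nat.card_congr (isometryEquiv (minusForm k F a b)).toEquiv, coe_minusForm, Nat.add_sub_cancel]

end minus

section index

variable {F : Type u} [Field F] [Fintype F] {m : ℕ}

end index

section field

open Cfsg.Agent.H813.SaxSp

variable {F : Type u} [Field F] [Fintype F]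

local notation "I4" => (Fin 2 ⊕ Fin 2)

variable {K : Subalgebra F (Matrix I4 I4 F)}

theorem stab_diff' (hK : IsFieldSubalgebra 2 K) (hsa : IsSelfAdjointFor (sympForm 2 F) K)
    (halt : ∀ k ∈ K, ∀ v : (I4 → F), (sympForm 2 F) (k *ᵥ v) v = 0) {c : GL I4 F} (hc : c ∈ spGL 2 F)
    (hcK : ∀ k ∈ K, (c : Matrix I4 I4 F) * k = k * c) {v : I4 → F} (hv : v ≠ 0) (hcv : (c : Matrix I4 I4 F) *ᵥ v = v)
    (u : I4 → F) : ∃ k ∈ K, (c : Matrix I4 I4 F) *ᵥ u = u + k *ᵥ v := by
  by_contra hno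
  push Not at hno
  set d := (c : Matrix I4 I4 F) *ᵥ u - u with hd
  have hcu : (c : Matrix I4 I4 F) *ᵥ u = d + u := by rw [hd, sub_add_cancel]
  have hkd : ∀ k ∈ K, sympForm 2 F (k *ᵥ v) d = 0 := by
    intro k hk
    have h1 : (c : Matrix I4 I4 F) *ᵥ (k *ᵥ v) = k *ᵥ v := by
      rw [Matrix.mulVec_mulVec, hcK k hk, ← Matrix.mulVec_mulVec, hcv]
    have h3 : sympForm 2 F (k *ᵥ v) ((c : Matrix I4 I4 F) *ᵥ u) = sympForm 2 F (k *ᵥ v) u := by
      conv_lhs => rw [← h1]
      exact mem_spGL_iff.1 hc _ _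
    rw [hcu, sympForm_add_right] at h3
    exact left_eq_add.1 ((add_comm _ _).trans h3).symm
  apply hv
  apply eq_zero_of_forall_sympForm_left
  intro x
  obtain ⟨k, hk, l, hl, rfl⟩ := surj_two hK hv (w := d) (fun k hk h => hno k hk (by
    rw [h, hd, add_sub_cancel])) x
  rw [sympForm_swap, sympForm_add_right, ← hsa k hk, halt k hk, ← hsa l hl, hkd l hl, add_zero, neg_zero]

theorem stab_pow {p : ℕ} [CharP F p] (hK : IsFieldSubalgebra 2 K) (hsa : IsSelfAdjointFor (sympForm 2 F) K)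
    (halt : ∀ k ∈ K, ∀ v : (I4 → F), (sympForm 2 F) (k *ᵥ v) v = 0) {c : GL I4 F} (hc : c ∈ spGL 2 F)
    (hcK : ∀ k ∈ K, (c : Matrix I4 I4 F) * k = k * c) {v : I4 → F} (hv : v ≠ 0) (hcv : (c : Matrix I4 I4 F) *ᵥ v = v) :
    c ^ p = 1 := by
  have key : ∀ u : I4 → F, ((c ^ p : GL I4 F) : Matrix I4 I4 F) *ᵥ u = u := by
    intro u
    obtain ⟨k, hk, hku⟩ := stab_diff' hK hsa halt hc hcK hv hcv u
    have h1 : (c : Matrix I4 I4 F) *ᵥ (k *ᵥ v) = k *ᵥ v := by
      rw [Matrix.mulVec_mulVec, hcK k hk, ← Matrix.mulVec_mulVec, hcv]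
    have h2 : ∀ n : ℕ, ((c ^ n : GL I4 F) : Matrix I4 I4 F) *ᵥ u = u + (n : F) • (k *ᵥ v) := by
      intro n
      induction n with
      | zero => simp
      | succ n ih =>
        rw [pow_succ', Units.val_mul, ← Matrix.mulVec_mulVec, ih, Matrix.mulVec_add, Matrix.mulVec_smul, h1, hku]
        push_cast
        rw [add_smul, one_smul]
        abel
    rw [h2, CharP.cast_eq_zero, zero_smul, add_zero]
  apply Units.ext
  apply Matrix.ext_of_mulVec_single
  intro i
  rw [key, Units.val_one, Matrix.one_mulVec]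

theorem stab_card' (hK : IsFieldSubalgebra 2 K) (hsa : IsSelfAdjointFor (sympForm 2 F) K)
    (halt : ∀ k ∈ K, ∀ v : (I4 → F), (sympForm 2 F) (k *ᵥ v) v = 0) {R : Subgroup (GL I4 F)} (hR : R ≤ spGL 2 F)
    (hRK : ∀ c ∈ R, ∀ k ∈ K, (c : Matrix I4 I4 F) * k = k * c) {v : I4 → F} (hv : v ≠ 0)
    (hcv : ∀ c ∈ R, (c : Matrix I4 I4 F) *ᵥ v = v) : Nat.card R ≤ Fintype.card F ^ 2 := by
  have hfin : Finite K := Module.finite_of_finite F
  obtain ⟨w, hw⟩ := exists_not hK v
  rw [← card_K hK]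
  have h1 : ∀ c : R, ∃ k : K, ((c : GL I4 F) : Matrix I4 I4 F) *ᵥ w = w + (k : Matrix I4 I4 F) *ᵥ v := by
    intro c
    obtain ⟨k, hk, h⟩ := stab_diff' hK hsa halt (hR c.2) (hRK c c.2) hv (hcv c c.2) w
    exact ⟨⟨k, hk⟩, h⟩
  choose φ hφ using h1
  refine Nat.card_le_card_of_injective φ ?_
  intro a b hab
  have h2 : ((a : GL I4 F) : Matrix I4 I4 F) *ᵥ w = ((b : GL I4 F) : Matrix I4 I4 F) *ᵥ w := by
    rw [hφ a, hφ b, hab]
  apply Subtype.ext
  apply Units.ext
  apply Matrix.ext_of_mulVec_single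
  intro i
  obtain ⟨k, hk, l, hl, h4⟩ := surj_two hK hv hw (Pi.single i 1)
  rw [h4, Matrix.mulVec_add, Matrix.mulVec_add, Matrix.mulVec_mulVec, Matrix.mulVec_mulVec, Matrix.mulVec_mulVec,
    Matrix.mulVec_mulVec, hRK a a.2 k hk, hRK b b.2 k hk, hRK a a.2 l hl, hRK b b.2 l hl, ← Matrix.mulVec_mulVec,
    ← Matrix.mulVec_mulVec, ← Matrix.mulVec_mulVec, ← Matrix.mulVec_mulVec, hcv a a.2, hcv b b.2, h2]

theorem other_card {p : ℕ} [hpp : Fact p.Prime] [CharP F p] (hK : IsFieldSubalgebra 2 K)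
    (hsa : IsSelfAdjointFor (sympForm 2 F) K)
    (halt : ∀ k ∈ K, ∀ v : (I4 → F), (sympForm 2 F) (k *ᵥ v) v = 0) {R : Subgroup (GL I4 F)} (hR : R ≤ spGL 2 F)
    (hRK : ∀ c ∈ R, ∀ k ∈ K, (c : Matrix I4 I4 F) * k = k * c) {r : ℕ} (hr : r.Prime) (hrp : r ≠ p)
    (hRr : IsPGroup r R) : Nat.card R ∣ Fintype.card F ^ 4 - 1 := by
  classical
  have hrf := Fact.mk hr
  let _ := vact' R
  have hfree : ∀ v : {v : I4 → F // v ≠ 0}, MulAction.stabilizer R v = ⊥ := by
    intro v
    rw [eq_bot_iff]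
    intro c hc
    rw [Subgroup.mem_bot]
    have h1 : ((c : GL I4 F) : Matrix I4 I4 F) *ᵥ v.1 = v.1 := congrArg Subtype.val hc
    have h2 := stab_pow (p := p) hK hsa halt (hR c.2) (hRK c c.2) v.2 h1
    have h3 : c ^ p = 1 := Subtype.ext h2
    obtain ⟨k, hk⟩ := IsPGroup.iff_orderOf.1 hRr c
    have h4 := orderOf_dvd_of_pow_eq_one h3
    rw [hk] at h4
    have h5 : Nat.Coprime (r ^ k) p := Nat.Coprime.pow_left k ((Nat.coprime_primes hr hpp.out).2 hrp)
    have h6 : r ^ k = 1 := Nat.Coprime.eq_one_of_dvd h5 h4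
    rw [h6] at hk
    exact orderOf_eq_one_iff.1 hk
  have e := MulAction.selfEquivOrbitsQuotientProd hfree
  have h1 := Nat.card_congr e
  rw [Nat.card_prod] at h1
  have h2 : Nat.card {v : I4 → F // v ≠ 0} = Fintype.card F ^ 4 - 1 := by
    have h3 := Set.ncard_add_ncard_compl ({0} : Set (I4 → F))
    rw [Set.ncard_singleton, card_V] at h3
    have h4 : Nat.card {v : I4 → F // v ≠ 0} = ({0} : Set (I4 → F))ᶜ.ncard := rfl
    omega
  rw [← h2, h1]
  exact Dvd.intro_left _ rfl

theorem char_card {p : ℕ} [hpp : Fact p.Prime] [CharP F p] (hK : IsFieldSubalgebra 2 K)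
    (hsa : IsSelfAdjointFor (sympForm 2 F) K)
    (halt : ∀ k ∈ K, ∀ v : (I4 → F), (sympForm 2 F) (k *ᵥ v) v = 0) {R : Subgroup (GL I4 F)} (hR : R ≤ spGL 2 F)
    (hRK : ∀ c ∈ R, ∀ k ∈ K, (c : Matrix I4 I4 F) * k = k * c)
    (hRp : IsPGroup p R) : Nat.card R ≤ Fintype.card F ^ 2 := by
  let _ := vact R
  have hmod := hRp.card_modEq_card_fixedPoints (I4 → F)
  obtain ⟨f, -, hf⟩ := FiniteField.card F p
  have h1 : p ∣ Nat.card (I4 → F) := by
    rw [card_V, hf]
    exact dvd_pow (dvd_pow_self p f.pos.ne') (by norm_num)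
  have h2 : p ∣ Nat.card (MulAction.fixedPoints R (I4 → F)) := (Nat.ModEq.dvd_iff hmod dvd_rfl).1 h1
  have h0 : (0 : I4 → F) ∈ MulAction.fixedPoints R (I4 → F) := fun g => Matrix.mulVec_zero _
  have h3 : 1 < Nat.card (MulAction.fixedPoints R (I4 → F)) := by
    have : 0 < Nat.card (MulAction.fixedPoints R (I4 → F)) := by
      have : Nonempty (MulAction.fixedPoints R (I4 → F)) := ⟨⟨0, h0⟩⟩
      exact Nat.card_pos
    have := Nat.le_of_dvd this h2
    have := hpp.out.two_le
    omega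
  have h4 := Finite.one_lt_card_iff_nontrivial.1 h3
  obtain ⟨⟨v, hv⟩, hne⟩ := exists_ne (⟨0, h0⟩ : MulAction.fixedPoints R (I4 → F))
  refine stab_card' hK hsa halt hR hRK (v := v) ?_ (fun c hc => hv ⟨c, hc⟩)
  intro h
  exact hne (Subtype.ext h)

theorem cent_card' (hK : IsFieldSubalgebra 2 K) (hsa : IsSelfAdjointFor (sympForm 2 F) K)
    (halt : ∀ k ∈ K, ∀ v : (I4 → F), (sympForm 2 F) (k *ᵥ v) v = 0) {C : Subgroup (GL I4 F)} (hC : C ≤ spGL 2 F)
    (hCK : ∀ c ∈ C, ∀ k ∈ K, (c : Matrix I4 I4 F) * k = k * c) :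
    Nat.card C ∣ Fintype.card F ^ 2 * (Fintype.card F ^ 4 - 1) := by
  obtain ⟨p, hp⟩ := CharP.exists F
  have hpp : Fact p.Prime := ⟨CharP.char_is_prime F p⟩
  obtain ⟨f, -, hf⟩ := FiniteField.card F p
  rw [Nat.dvd_iff_prime_pow_dvd_dvd]
  intro r k hr hd
  have hrf := Fact.mk hr
  let P : Sylow r C := default
  have h1 : r ^ k ∣ Nat.card (P : Subgroup C) := P.pow_dvd_card_of_pow_dvd_card hd
  have h2 : Nat.card ((P : Subgroup C).map C.subtype) = Nat.card (P : Subgroup C) :=
    Subgroup.card_map_of_injective C.subtype_injective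
  have h3 : (P : Subgroup C).map C.subtype ≤ C := Subgroup.map_subtype_le _
  by_cases hr2 : r = p
  · subst hr2
    have h4 := char_card (p := r) hK hsa halt (h3.trans hC) (fun c hc => hCK c (h3 hc)) (P.2.map C.subtype)
    rw [h2] at h4
    obtain ⟨j, hj⟩ := P.2.exists_card_eq
    have hj' : Nat.card (P : Subgroup C) = r ^ j := hj
    rw [hj'] at h1 h4
    have h5 : r ^ j ∣ Fintype.card F ^ 2 := by
      rw [hf, ← pow_mul] at h4 ⊢
      exact pow_dvd_pow r ((Nat.pow_le_pow_iff_right hr.one_lt).1 h4)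
    exact (h1.trans h5).trans (Dvd.intro _ rfl)
  · have h4 := other_card (p := p) hK hsa halt (h3.trans hC) (fun c hc => hCK c (h3 hc)) hr hr2 (P.2.map C.subtype)
    rw [h2] at h4
    exact (h1.trans h4).trans (Dvd.intro_left _ rfl)

/-- **The order of the normaliser of a quadratic extension field of symplectic type.** -/
theorem card_field' (hK : IsFieldSubalgebra 2 K) (hsa : IsSelfAdjointFor (sympForm 2 F) K)
    (halt : ∀ k ∈ K, ∀ v : (I4 → F), (sympForm 2 F) (k *ᵥ v) v = 0) :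
    Nat.card (subalgebraNormalizer K ⊓ spGL 2 F : Subgroup (GL I4 F)) ∣
      2 * Fintype.card F ^ 2 * (Fintype.card F ^ 4 - 1) := by
  classical
  obtain ⟨N, hN⟩ : ∃ N : Subgroup (GL I4 F), N = subalgebraNormalizer K ⊓ spGL 2 F := ⟨_, rfl⟩
  have hNA : H912.NormAlg N K := fun g hg a ha => (((hN ▸ hg : g ∈ subalgebraNormalizer K ⊓ spGL 2 F).1) a).mp ha
  let _ : Field K := (H912.isField_of_fieldSub hK).toField
  have hfd : Module.Finite F K := inferInstance
  have hKfin : Finite K := Module.finite_of_finite F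
  have hgal : IsGalois F K := inferInstance
  let ρ : N →* (K ≃ₐ[F] K) :=
    { toFun := fun g => H912.conjSub hNA g
      map_one' := by
        apply AlgEquiv.ext
        intro x
        apply Subtype.ext
        rw [H912.conjSub_coe]
        simp
      map_mul' := by
        intro g h
        apply AlgEquiv.ext
        intro x
        apply Subtype.ext
        rw [AlgEquiv.mul_apply, H912.conjSub_coe, H912.conjSub_coe, H912.conjSub_coe]
        simp only [Subgroup.coe_mul, _root_.mul_inv_rev, Units.val_mul, Matrix.mul_assoc] }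
  have h1 : Nat.card (K ≃ₐ[F] K) = 2 := by
    rw [IsGalois.card_aut_eq_finrank]
    exact hK.finrank_eq
  have h2 : Nat.card ρ.range ∣ 2 := (Subgroup.card_subgroup_dvd_card ρ.range).trans (dvd_of_eq h1)
  have h3 : Nat.card ρ.ker ∣ Fintype.card F ^ 2 * (Fintype.card F ^ 4 - 1) := by
    rw [← Subgroup.card_map_of_injective (K := ρ.ker) N.subtype_injective]
    refine cent_card' hK hsa halt ?_ ?_
    · rintro _ ⟨g, -, rfl⟩
      exact (hN ▸ g.2 : (g : GL I4 F) ∈ subalgebraNormalizer K ⊓ spGL 2 F).2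
    · rintro _ ⟨g, hg, rfl⟩ k hk
      have h4 : ρ g ⟨k, hk⟩ = ⟨k, hk⟩ := by rw [MonoidHom.mem_ker.1 hg]; rfl
      have h5 : ((g : GL I4 F) : Matrix I4 I4 F) * k * (((g : GL I4 F)⁻¹ : GL I4 F) : Matrix I4 I4 F) = k :=
        congrArg Subtype.val h4
      show ((g : GL I4 F) : Matrix I4 I4 F) * k = k * ((g : GL I4 F) : Matrix I4 I4 F)
      conv_rhs => rw [← h5]
      rw [Matrix.mul_assoc _ (((g : GL I4 F)⁻¹ : GL I4 F) : Matrix I4 I4 F), ← Units.val_mul, inv_mul_cancel, Units.val_one,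
        Matrix.mul_one]
  rw [← hN, ← Subgroup.card_mul_index ρ.ker, Subgroup.index_ker, mul_comm, mul_assoc]
  exact Nat.mul_dvd_mul h2 h3

end field

end Cfsg.Agent.H81.CycS
end
end
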