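import Cfsg.Agent.H813.SaxSpK
import Cfsg.Agent.H198.SympGamma
import Cfsg.Agent.H938.Sax.Base
import Cfsg.Agent.H637.OrthBasic
import Cfsg.Agent.S0789
import Cfsg.Agent.S0297
import Cfsg.Agent.LieClassical.OmegaReindex
import Cfsg.Agent.LieClassical.OrthCenter
import Cfsg.Agent.Prune
set_option linter.all false
prune_inst 0x7f00000000000000000000000000000000000000000000000000000000000000000000000000000000000000000000000000000000000000000000000000000000000000000000000000000000000000003fffffffffffffffffffffffffffbeffbdffffffff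
open scoped Cfsg.Agent.FastGrp

/-!
# SAX-SP8E: orthogonal subgroups of minus type of `PSp_2m(q)`, `q` and `m` even, miss an automorphism class
-/

set_option autoImplicit false

namespace Cfsg.Agent.H81.SaxSp

open Cfsg Cfsg.Geo Module Cfsg.Agent.H396
open Cfsg.Agent.ClassicalGeometry.SympBasic Cfsg.Agent.H876 Cfsg.Agent.H931 Cfsg.Agent.H262.El
open Cfsg.Agent.H198.SemiMat Cfsg.Agent.H198.SympGamma
open scoped Matrix MatrixGroups

universe u

variable {F : Type u} [Field F] {m : ℕ}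

/-- an automorphism of `PSp m F` on the class of `A` -/
theorem aut_apply [Finite F] (hm : 3 ≤ m) (φ : MulAut (PSp m F)) (A : Matrix.symplecticGroup (Fin m) F) :
    ∃ (B : GL (Fin m ⊕ Fin m) F) (σ : F ≃+* F) (C : Matrix.symplecticGroup (Fin m) F),
      φ (QuotientGroup.mk A) = QuotientGroup.mk C ∧
      spToGL m F C = B * Matrix.GeneralLinearGroup.map (σ : F →+* F) (spToGL m F A) * B⁻¹ := by
  obtain ⟨B, σ, hB, h⟩ := exists_pair (by omega) (Or.inl hm) φ
  obtain ⟨N, hN⟩ : ∃ N : Matrix (Fin m ⊕ Fin m) (Fin m ⊕ Fin m) F, N = (B : Matrix _ _ F) *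
    (A : Matrix (Fin m ⊕ Fin m) (Fin m ⊕ Fin m) F).map σ * ((B⁻¹ : GL (Fin m ⊕ Fin m) F) : Matrix _ _ F) := ⟨_, rfl⟩
  have hN' := fun v => conj_mulVec hN v
  have hsurj : ∀ w : Fin m ⊕ Fin m → F, ∃ v : Fin m ⊕ Fin m → F, w =
      (B : Matrix (Fin m ⊕ Fin m) (Fin m ⊕ Fin m) F) *ᵥ fun i => σ (v i) := by
    intro w
    refine ⟨fun i => σ.symm ((((B⁻¹ : GL (Fin m ⊕ Fin m) F) : Matrix (Fin m ⊕ Fin m) (Fin m ⊕ Fin m) F) *ᵥ w) i), ?_⟩
    have h1 : (fun i => σ (σ.symm ((((B⁻¹ : GL (Fin m ⊕ Fin m) F) : Matrix (Fin m ⊕ Fin m) (Fin m ⊕ Fin m) F) *ᵥ w) i))) =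
        ((B⁻¹ : GL (Fin m ⊕ Fin m) F) : Matrix (Fin m ⊕ Fin m) (Fin m ⊕ Fin m) F) *ᵥ w := by
      funext i
      simp
    rw [h1, Matrix.mulVec_mulVec, ← Units.val_mul, mul_inv_cancel, Units.val_one, Matrix.one_mulVec]
  obtain ⟨c, hc⟩ := hB
  have hNs : N ∈ Matrix.symplecticGroup (Fin m) F := by
    rw [mem_symplecticGroup_iff]
    intro u v
    obtain ⟨u, rfl⟩ := hsurj u
    obtain ⟨v, rfl⟩ := hsurj v
    rw [hN', hN', hc, hc, sympForm_map, sympForm_map, mem_symplecticGroup_iff.1 A.2]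
  exact ⟨B, σ, ⟨N, hNs⟩, h A ⟨N, hNs⟩ hN, Units.ext hN⟩

theorem fix_map {ι : Type} [Fintype ι] [DecidableEq ι] {B A : GL ι F} {σ : F ≃+* F}
    (hA : ∀ v, (A : Matrix ι ι F) *ᵥ v = v → v = 0) (v : ι → F)
    (hv : ((B * Matrix.GeneralLinearGroup.map (σ : F →+* F) A * B⁻¹ : GL ι F) : Matrix ι ι F) *ᵥ v = v) : v = 0 := by
  rw [Units.val_mul, ← Matrix.mulVec_mulVec, Units.val_mul, ← Matrix.mulVec_mulVec] at hv
  obtain ⟨w, hw⟩ : ∃ w, w = ((B⁻¹ : GL ι F) : Matrix ι ι F) *ᵥ v := ⟨_, rfl⟩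
  rw [← hw] at hv
  have h1 : ((Matrix.GeneralLinearGroup.map (σ : F →+* F) A : GL ι F) : Matrix ι ι F) *ᵥ w = w := by
    have h0 := congrArg (fun u => ((B⁻¹ : GL ι F) : Matrix ι ι F) *ᵥ u) hv
    rwa [Matrix.mulVec_mulVec, ← Units.val_mul, inv_mul_cancel, Units.val_one, Matrix.one_mulVec, ← hw] at h0
  have h2 : w = fun i => σ (σ.symm (w i)) := by
    funext i
    simp
  have h3 : (A : Matrix ι ι F) *ᵥ (fun i => σ.symm (w i)) = fun i => σ.symm (w i) := by
    have h4 := map_mulVec σ (A : Matrix ι ι F) (fun i => σ.symm (w i))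
    rw [← h2] at h4
    have h5 : (A : Matrix ι ι F).map σ *ᵥ w = w := h1
    rw [h5] at h4
    funext i
    have h6 := congrFun h4 i
    rw [h6, RingEquiv.symm_apply_apply]
  have h4 := hA _ h3
  have h5 : w = 0 := by
    rw [h2]
    funext i
    have := congrFun h4 i
    simp only [Pi.zero_apply] at this ⊢
    rw [this, map_zero]
  have h6 : v = (B : Matrix ι ι F) *ᵥ w := by
    rw [hw, Matrix.mulVec_mulVec, ← Units.val_mul, mul_inv_cancel, Units.val_one, Matrix.one_mulVec]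
  rw [h6, h5, Matrix.mulVec_zero]

/-- **the `C₈` subgroups of minus type** -/
theorem der_minus [Fintype F] (hm : 3 ≤ m) (hme : Even m) (hF : ¬ Odd (Fintype.card F))
    {Q : (Fin m ⊕ Fin m → F) → F} (hQ : IsNondegenerateQuadraticForm Q)
    (hmin : ∀ Q' : QuadraticForm F (Fin m ⊕ Fin m → F), ⇑Q' = Q → ¬ Cfsg.Agent.H955.IsPlus Q')
    {R : Subgroup (PSp m F)} (hR : pre R ≤ quadSimilarityGroup Q) : Der (PSp m F) R := by
  have hev : Even (Fintype.card F) := Nat.not_odd_iff_even.1 hF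
  have hι : Fintype.card (Fin m ⊕ Fin m) = 2 * m := card_sum_fin
  -- a prime divisor of `q + 1`
  obtain ⟨s, hs, hsd⟩ := Nat.exists_prime_and_dvd (n := Fintype.card F + 1) (by
    have := Fintype.card_pos (α := F); omega)
  have hs2 : s ≠ 2 := by
    rintro rfl
    obtain ⟨a, ha⟩ := hev
    obtain ⟨b, hb⟩ := hsd
    omega
  have hchar : CharP F 2 := by
    obtain ⟨p, hp⟩ := CharP.exists F
    have hpp : p.Prime := CharP.char_is_prime F p
    obtain ⟨n, -, hn⟩ := FiniteField.card F p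
    rw [hn] at hev
    have h2 : 2 ∣ p := Nat.prime_two.dvd_of_dvd_pow (even_iff_two_dvd.1 hev)
    have h3 : 2 = p := (Nat.prime_dvd_prime_iff_eq Nat.prime_two hpp).1 h2
    rw [h3]
    exact hp
  have hsF : (s : F) ≠ 0 := by
    intro h0
    have h1 : 2 ∣ s := (CharP.cast_eq_zero_iff F 2 s).1 h0
    exact hs2 ((Nat.prime_dvd_prime_iff_eq Nat.prime_two hs).1 h1).symm
  have hs' := Fact.mk hs
  have hsq : (Fintype.card F : ZMod s) = -1 := by
    have h1 : ((Fintype.card F + 1 : ℕ) : ZMod s) = 0 := (ZMod.natCast_eq_zero_iff _ _).2 hsd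
    push_cast at h1
    linear_combination h1
  have h2s : (2 : ZMod s) ≠ 0 := by
    intro h0
    have h1 : ((2 : ℕ) : ZMod s) = 0 := by exact_mod_cast h0
    have h3 := (ZMod.natCast_eq_zero_iff 2 s).1 h1
    exact hs2 ((Nat.prime_dvd_prime_iff_eq hs Nat.prime_two).1 h3)
  obtain ⟨x, hx, hxs, hfix⟩ := exists_no_fix (m := m) hs hsF hsd
  obtain ⟨A, rfl⟩ := exists_spToGL hx
  have hA : A ^ s = 1 := by
    apply spToGL_injective
    rw [map_pow, map_one]
    exact hxs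
  -- the key property
  have key : ∀ φ : MulAut (PSp m F), φ (QuotientGroup.mk A : PSp m F) ∉ R := by
    intro φ hφ
    obtain ⟨B, σ, C, hC, hCm⟩ := aut_apply hm φ A
    rw [hC, ← mem_pre] at hφ
    have hCG : (spToGL m F C) ^ s = 1 := by
      rw [hCm, conj_pow, ← map_pow, ← map_pow, hA, map_one, map_one, mul_one, mul_inv_cancel]
    have hCf : ∀ v, ((spToGL m F C : GL (Fin m ⊕ Fin m) F) : Matrix (Fin m ⊕ Fin m) (Fin m ⊕ Fin m) F) *ᵥ v = v →
        v = 0 := by
      rw [hCm]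
      exact fix_map hfix
    rcases quad_dichotomy (m := m) (by omega) hι hs hQ (hR hφ) hCG hCf with ⟨⟨Q'', hQ'', hP'⟩, -⟩ | ⟨-, h1⟩
    · exact hmin Q'' hQ'' hP'
    · have hmo : Odd (m - 1) := Nat.Even.sub_odd (by omega) hme odd_one
      rw [hsq, hme.neg_one_pow, hmo.neg_one_pow] at h1
      have h3 : (2 : ZMod s) * 2 = 0 := by linear_combination -h1
      rcases mul_eq_zero.1 h3 with h4 | h4 <;> exact h2s h4
  refine ⟨(QuotientGroup.mk A : PSp m F), ?_, key⟩
  have h1 : (QuotientGroup.mk A : PSp m F) ≠ 1 := by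
    intro h1
    apply key 1
    rw [h1, map_one]
    exact R.one_mem
  have h2 : (QuotientGroup.mk A : PSp m F) ^ s = 1 := by
    rw [← QuotientGroup.mk_pow, hA]
    rfl
  rcases (Nat.dvd_prime hs).1 (orderOf_dvd_of_pow_eq_one h2) with h3 | h3
  · exact absurd (orderOf_eq_one_iff.1 h3) h1
  · rw [h3]
    exact hs

/-! ### sections -/

open Cfsg.Agent.H938.Sax

/-! ### the orthogonal group of minus type in `PSp_2m(q)` -/

open Cfsg.Agent.ClassicalGeometry.Reflection (mem_isometryGroup_iff)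

/-- isometries of `Q` as symplectic matrices -/
def toSp {Q : (Fin m ⊕ Fin m → F) → F} (hpol : ∀ u v, QuadraticMap.polar Q u v = sympForm m F u v) :
    isometryGroup F Q →* Matrix.symplecticGroup (Fin m) F where
  toFun g := ⟨((g : GL (Fin m ⊕ Fin m) F) : Matrix (Fin m ⊕ Fin m) (Fin m ⊕ Fin m) F),
    mem_symplecticGroup_iff.2 fun u v => by
      have h := (mem_isometryGroup_iff _ _).1 g.2
      rw [← hpol, ← hpol, QuadraticMap.polar, QuadraticMap.polar, ← Matrix.mulVec_add, h, h, h]⟩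
  map_one' := rfl
  map_mul' _ _ := rfl

/-- isometries of `Q` as elements of `PSp` -/
def toPSp {Q : (Fin m ⊕ Fin m → F) → F} (hpol : ∀ u v, QuadraticMap.polar Q u v = sympForm m F u v) :
    isometryGroup F Q →* PSp m F :=
  (QuotientGroup.mk' (Subgroup.center (Matrix.symplecticGroup (Fin m) F))).comp (toSp hpol)

theorem exists_toPSp {Q : (Fin m ⊕ Fin m → F) → F} (hm : 1 ≤ m)
    (hpol : ∀ u v, QuadraticMap.polar Q u v = sympForm m F u v) {L : Subgroup (PSp m F)}
    (hL : pre L ≤ quadSimilarityGroup Q) {x : PSp m F} (hx : x ∈ L) : ∃ g, toPSp hpol g = x := by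
  obtain ⟨A, rfl⟩ := QuotientGroup.mk_surjective x
  obtain ⟨c, hc⟩ := hL (mem_pre.2 hx)
  have hA : ∀ u v, sympForm m F ((A : Matrix _ _ F) *ᵥ u) ((A : Matrix _ _ F) *ᵥ v) = sympForm m F u v :=
    fun u v => mem_symplecticGroup_iff.1 A.2 u v
  have hc1 : (c : F) = 1 := by
    obtain ⟨u, v, huv⟩ : ∃ u v : Fin m ⊕ Fin m → F, sympForm m F u v ≠ 0 := by
      by_contra hcon
      push Not at hcon
      have h1 : (Pi.single (Sum.inl ⟨0, hm⟩) 1 : Fin m ⊕ Fin m → F) = 0 :=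
        eq_zero_of_forall_sympForm_left fun u => hcon u _
      have h2 := congrFun h1 (Sum.inl ⟨0, hm⟩)
      simp at h2
    have h1 : QuadraticMap.polar Q ((A : Matrix _ _ F) *ᵥ u) ((A : Matrix _ _ F) *ᵥ v) =
        (c : F) * QuadraticMap.polar Q u v := by
      have h2 : ∀ w, Q ((A : Matrix (Fin m ⊕ Fin m) (Fin m ⊕ Fin m) F) *ᵥ w) = (c : F) * Q w := hc
      rw [QuadraticMap.polar, QuadraticMap.polar, ← Matrix.mulVec_add, h2, h2, h2]
      ring
    rw [hpol, hpol, hA] at h1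
    have h2 : (c : F) * sympForm m F u v = 1 * sympForm m F u v := by rw [← h1, one_mul]
    exact mul_right_cancel₀ huv h2
  have hiso : spToGL m F A ∈ isometryGroup F Q := by
    rw [mem_isometryGroup_iff]
    intro v
    rw [hc, hc1, one_mul]
  exact ⟨⟨_, hiso⟩, rfl⟩

/-! ### an element of order four -/

/-! ### conclusions -/

theorem center_bot [Fintype F] (hm : 1 ≤ m) (hF : ¬ Odd (Fintype.card F)) :
    Subgroup.center (Matrix.symplecticGroup (Fin m) F) = ⊥ := by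
  rw [← Subgroup.card_eq_one, Cfsg.Agent.LieClassical.SympCenter.card_center hm]
  have h1 : Odd (Fintype.card F - 1) := Nat.Even.sub_odd Fintype.card_pos (Nat.not_odd_iff_even.1 hF) odd_one
  exact (Nat.coprime_two_left (n := Fintype.card F - 1)).2 h1

theorem char_two [Fintype F] (hF : ¬ Odd (Fintype.card F)) : CharP F 2 := by
  have hev : Even (Fintype.card F) := Nat.not_odd_iff_even.1 hF
  obtain ⟨p, hp⟩ := CharP.exists F
  have hpp : p.Prime := CharP.char_is_prime F p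
  obtain ⟨n, -, hn⟩ := FiniteField.card F p
  rw [hn] at hev
  have h2 : 2 ∣ p := Nat.prime_two.dvd_of_dvd_pow (even_iff_two_dvd.1 hev)
  have h3 : 2 = p := (Nat.prime_dvd_prime_iff_eq Nat.prime_two hpp).1 h2
  rw [h3]
  exact hp

end Cfsg.Agent.H81.SaxSp
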