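import Cfsg.Agent.H81.FFourCode
import Cfsg.Agent.H83.Disp
import Cfsg.Agent.Nodes.RGDChev
set_option linter.all false

-- part: H81/FFourFus
section
/-!
Fusion of the eleven non-trivial involutions `n_w`, `w = w₀ w_J`, of `N` over the prime field into the four classes of
involutions of `F₄` in characteristic 2 (helper81).  Words found by a program, checked by the kernel.
-/

set_option autoImplicit false
set_option maxRecDepth 100000

namespace Cfsg.Agent.H81.FFourFus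

open Cfsg.Lie Cfsg.Agent.ChevalleyStructure.TwF4.Bits Cfsg.Agent.ChevalleyStructure.TwF4.Tables
  Cfsg.Agent.ChevalleyStructure.Elts Cfsg.Agent.H81.FFourCode

/-- the letters of `n_i` -/
def nl : ℕ → List ℕ
  | 0 => [33, 14, 33]
  | 1 => [27, 20, 27]
  | 2 => [25, 22, 25]
  | _ => [24, 23, 24]

/-- the letters of the product of the `n_i` -/
def nW (w : List ℕ) : List ℕ := w.flatMap nl

/-- the four representatives -/
def reps : List (List ℕ) := [[47], [44], [47, 44], [39, 45]]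

/-- the check: `h * n_w * h⁻¹` is one of the four representatives -/
def chk (w h b : List ℕ) : Bool :=
  okW (h ++ nW w ++ h.reverse) && okW b && Nat.beq (wc (h ++ nW w ++ h.reverse) idN) (wc b idN)

theorem conj_of_chk {K : Type*} [Field K] [CharP K 2] {w h b : List ℕ} (hc : chk w h b = true) :
    wG K h * wG K (nW w) * (wG K h)⁻¹ = wG K b := by
  unfold chk at hc
  rw [Bool.and_eq_true, Bool.and_eq_true] at hc
  exact conj_of_code hc.1.1 hc.1.2 hc.2

/-- J = [] -/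
theorem chk0 : chk [3, 2, 1, 2, 0, 1, 2, 3, 2, 1, 2, 0, 1, 2, 3, 2, 1, 2, 0, 1, 2, 0, 1, 0]
    [25, 22, 25, 27, 20, 27, 25, 22, 25, 33, 14, 33, 27, 20, 27, 25, 22, 25, 24, 23, 24, 32, 42, 29, 24, 23, 24, 25, 22, 25, 33, 14, 33, 27, 20, 27, 25, 22, 25, 24, 23, 24, 25, 22, 25, 33, 14, 33, 27, 20, 27, 33, 14, 33, 35, 38, 41, 27, 20, 27, 25, 22, 25, 24, 23, 24, 27, 20, 27, 25, 22, 25, 33, 14, 33, 27, 20, 27, 25, 22, 25, 24, 23, 24, 25, 22, 25, 33, 14, 33, 27, 20, 27, 25, 22, 25, 33, 14, 33, 27, 20, 27, 27, 28, 41, 47]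
    [39, 45] = true := by decide +kernel

/-- J = [0] -/
theorem chk1 : chk [3, 2, 1, 2, 0, 1, 2, 3, 2, 1, 2, 0, 1, 2, 3, 2, 1, 2, 0, 1, 2, 0, 1]
    [25, 22, 25, 27, 20, 27, 25, 22, 25, 33, 14, 33, 27, 20, 27, 25, 22, 25, 24, 23, 24, 32, 42, 29, 25, 22, 25, 27, 20, 27, 25, 22, 25, 33, 14, 33, 27, 20, 27, 25, 22, 25, 24, 23, 24, 25, 22, 25, 27, 20, 27, 25, 22, 25, 33, 14, 33, 27, 20, 27, 25, 22, 25, 24, 23, 24, 33, 14, 33, 27, 20, 27, 24, 45, 39]
    [39, 45] = true := by decide +kernel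

/-- J = [1] -/
theorem chk2 : chk [3, 2, 1, 2, 0, 1, 2, 3, 2, 1, 2, 0, 1, 2, 3, 2, 1, 2, 0, 1, 2, 1, 0]
    [25, 22, 25, 27, 20, 27, 25, 22, 25, 33, 14, 33, 27, 20, 27, 25, 22, 25, 24, 23, 24, 32, 42, 29, 25, 22, 25, 27, 20, 27, 25, 22, 25, 33, 14, 33, 27, 20, 27, 25, 22, 25, 24, 23, 24, 25, 22, 25, 27, 20, 27, 25, 22, 25, 33, 14, 33, 27, 20, 27, 25, 22, 25, 24, 23, 24, 24, 32, 44]
    [39, 45] = true := by decide +kernel

/-- J = [2] -/
theorem chk4 : chk [3, 2, 1, 2, 0, 1, 2, 3, 2, 1, 2, 0, 1, 2, 3, 1, 2, 0, 1, 2, 0, 1, 0]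
    [27, 20, 27, 25, 22, 25, 24, 23, 24, 27, 20, 27, 25, 22, 25, 33, 14, 33, 27, 20, 27, 33, 14, 33, 35, 38, 41, 24, 23, 24, 25, 22, 25, 27, 20, 27, 25, 22, 25, 33, 14, 33, 27, 20, 27, 25, 22, 25, 24, 23, 24, 25, 22, 25, 27, 20, 27, 25, 22, 25, 33, 14, 33, 27, 20, 27, 25, 22, 25, 24, 23, 24, 25, 22, 25, 27, 20, 27, 29, 44, 30]
    [39, 45] = true := by decide +kernel

/-- J = [0, 2] -/
theorem chk5 : chk [3, 2, 1, 2, 0, 1, 2, 3, 2, 1, 2, 0, 1, 2, 3, 1, 2, 0, 1, 2, 0, 1]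
    [27, 20, 27, 25, 22, 25, 33, 14, 33, 27, 20, 27, 25, 22, 25, 24, 23, 24, 25, 22, 25, 27, 20, 27, 25, 22, 25, 33, 14, 33, 27, 20, 27, 25, 22, 25, 24, 23, 24, 27, 20, 27, 25, 22, 25, 33, 14, 33, 27, 20, 27, 25, 22, 25, 33, 14, 33, 27, 20, 27, 37, 47]
    [39, 45] = true := by decide +kernel

/-- J = [1, 2] -/
theorem chk6 : chk [3, 2, 1, 2, 0, 1, 2, 3, 2, 1, 2, 0, 1, 2, 3, 0, 1, 2, 1, 0]
    [33, 14, 33, 27, 20, 27, 25, 22, 25, 27, 20, 27, 33, 14, 33, 41, 24, 23, 24, 25, 22, 25, 27, 20, 27, 25, 22, 25, 33, 14, 33, 27, 20, 27, 25, 22, 25, 24, 23, 24, 25, 22, 25, 27, 20, 27, 25, 22, 25, 33, 14, 33, 27, 20, 27, 25, 22, 25, 24, 23, 24, 29, 44]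
    [47, 44] = true := by decide +kernel

/-- J = [0, 1, 2] -/
theorem chk7 : chk [3, 2, 1, 2, 0, 1, 2, 3, 2, 1, 2, 0, 1, 2, 3]
    [24, 23, 24, 25, 22, 25, 27, 20, 27, 25, 22, 25, 33, 14, 33, 27, 20, 27, 25, 22, 25, 24, 23, 24, 25, 22, 25, 27, 20, 27, 25, 22, 25, 33, 14, 33, 27, 20, 27, 25, 22, 25, 24, 23, 24, 47]
    [47] = true := by decide +kernel

/-- J = [3] -/
theorem chk8 : chk [2, 1, 2, 0, 1, 2, 3, 2, 1, 2, 0, 1, 2, 3, 2, 1, 2, 0, 1, 2, 0, 1, 0]
    [27, 20, 27, 25, 22, 25, 24, 23, 24, 27, 20, 27, 25, 22, 25, 33, 14, 33, 27, 20, 27, 33, 14, 33, 35, 38, 41, 25, 22, 25, 24, 23, 24, 25, 22, 25, 27, 20, 27, 25, 22, 25, 33, 14, 33, 27, 20, 27, 25, 22, 25, 24, 23, 24, 25, 22, 25, 33, 14, 33, 27, 20, 27, 25, 22, 25, 33, 14, 33, 27, 20, 27, 27, 44, 32]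
    [39, 45] = true := by decide +kernel

/-- J = [0, 3] -/
theorem chk9 : chk [2, 1, 2, 0, 1, 2, 3, 2, 1, 2, 0, 1, 2, 3, 2, 1, 2, 0, 1, 2, 0, 1]
    [25, 22, 25, 27, 20, 27, 25, 22, 25, 33, 14, 33, 27, 20, 27, 25, 22, 25, 24, 23, 24, 25, 22, 25, 27, 20, 27, 25, 22, 25, 33, 14, 33, 27, 20, 27, 25, 22, 25, 24, 23, 24, 25, 22, 25, 27, 20, 27, 25, 22, 25, 33, 14, 33, 27, 20, 27, 25, 22, 25, 33, 14, 33, 27, 20, 27, 39, 45]
    [39, 45] = true := by decide +kernel

/-- J = [1, 3] -/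
theorem chk10 : chk [2, 1, 2, 0, 1, 2, 3, 2, 1, 2, 0, 1, 2, 3, 2, 1, 2, 0, 1, 2, 1, 0]
    [25, 22, 25, 27, 20, 27, 25, 22, 25, 33, 14, 33, 27, 20, 27, 25, 22, 25, 24, 23, 24, 25, 22, 25, 27, 20, 27, 25, 22, 25, 33, 14, 33, 27, 20, 27, 25, 22, 25, 24, 23, 24, 25, 22, 25, 27, 20, 27, 25, 22, 25, 33, 14, 33, 27, 20, 27, 25, 22, 25, 44, 32]
    [39, 45] = true := by decide +kernel

/-- J = [1, 2, 3] -/
theorem chk14 : chk [0, 1, 2, 3, 1, 2, 0, 1, 2, 3, 0, 1, 2, 1, 0]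
    [33, 14, 33, 27, 20, 27, 25, 22, 25, 24, 23, 24, 27, 20, 27, 25, 22, 25, 33, 14, 33, 27, 20, 27, 25, 22, 25, 24, 23, 24, 33, 14, 33, 27, 20, 27, 25, 22, 25, 27, 20, 27, 33, 14, 33, 44]
    [44] = true := by decide +kernel

end Cfsg.Agent.H81.FFourFus
end

-- part: H81/FFourW
section
/-!
The elements `w` of the Weyl group of type `F₄` with `w α_i = α_i` or `w α_i < 0` for all `i` (helper81).
They are the `w₀ w_J`; explicit words.
-/

set_option autoImplicit false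
set_option maxRecDepth 100000

namespace Cfsg.Agent.H81.FFourW

open CoxeterSystem Cfsg.Agent.ChevalleyStructure.CoxeterGeom Cfsg.Agent.Tits.Roots Cfsg.Agent.Tits.Core
  Cfsg.Agent.Tits.RootComb Cfsg.Agent.Nodes.Comb Cfsg.Agent.Nodes.Reps Cfsg.Agent.Nodes.BNOf
  Cfsg.Agent.Nodes.StabComb
open Cfsg.Lie Cfsg.Agent.ChevalleyStructure Cfsg.Agent.ChevalleyStructure.Elts
  Cfsg.Agent.ChevalleyStructure.RootVec Cfsg.Agent.ChevalleyStructure.RootVecTab
  Cfsg.Agent.ChevalleyStructure.NPerm Cfsg.Agent.ChevalleyStructure.CoxeterGeomTypes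
  Cfsg.Agent.Nodes.RGDChev Cfsg.Agent.H83.Disp

/-- `F₄` is a type -/
theorem hp : IsType chevF4 4 CoxeterMatrix.F₄ := by simp [IsType, typeList]

/-- action of a word on the root indices -/
def ract (ω : List (Fin 4)) (r : ℕ) : ℕ := ω.foldr (fun i s => chevF4.reflectRoot i.val s) r

/-- the set of nodes coded by a number below 16, as a Boolean function -/
def bt (m : ℕ) (i : Fin 4) : Bool := m.testBit i.val

/-- words of the longest elements of the parabolic subgroups -/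
def oJ : ℕ → List (Fin 4)
  | 0 => []
  | 1 => [0]
  | 2 => [1]
  | 3 => [0, 1, 0]
  | 4 => [2]
  | 5 => [2, 0]
  | 6 => [2, 1, 2, 1]
  | 7 => [2, 1, 2, 0, 1, 2, 0, 1, 0]
  | 8 => [3]
  | 9 => [3, 0]
  | 10 => [3, 1]
  | 11 => [3, 0, 1, 0]
  | 12 => [2, 3, 2]
  | 13 => [2, 3, 2, 0]
  | 14 => [3, 2, 1, 2, 3, 2, 1, 2, 1]
  | _ => [3, 2, 1, 2, 0, 1, 2, 3, 2, 1, 2, 0, 1, 2, 3, 2, 1, 2, 0, 1, 2, 0, 1, 0]

/-- words of the elements `w₀ w_J` -/
def om : ℕ → List (Fin 4)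
  | 0 => [3, 2, 1, 2, 0, 1, 2, 3, 2, 1, 2, 0, 1, 2, 3, 2, 1, 2, 0, 1, 2, 0, 1, 0]
  | 1 => [3, 2, 1, 2, 0, 1, 2, 3, 2, 1, 2, 0, 1, 2, 3, 2, 1, 2, 0, 1, 2, 0, 1]
  | 2 => [3, 2, 1, 2, 0, 1, 2, 3, 2, 1, 2, 0, 1, 2, 3, 2, 1, 2, 0, 1, 2, 1, 0]
  | 3 => [3, 2, 1, 2, 0, 1, 2, 3, 2, 1, 2, 0, 1, 2, 3, 2, 1, 2, 0, 1, 2]
  | 4 => [3, 2, 1, 2, 0, 1, 2, 3, 2, 1, 2, 0, 1, 2, 3, 1, 2, 0, 1, 2, 0, 1, 0]
  | 5 => [3, 2, 1, 2, 0, 1, 2, 3, 2, 1, 2, 0, 1, 2, 3, 1, 2, 0, 1, 2, 0, 1]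
  | 6 => [3, 2, 1, 2, 0, 1, 2, 3, 2, 1, 2, 0, 1, 2, 3, 0, 1, 2, 1, 0]
  | 7 => [3, 2, 1, 2, 0, 1, 2, 3, 2, 1, 2, 0, 1, 2, 3]
  | 8 => [2, 1, 2, 0, 1, 2, 3, 2, 1, 2, 0, 1, 2, 3, 2, 1, 2, 0, 1, 2, 0, 1, 0]
  | 9 => [2, 1, 2, 0, 1, 2, 3, 2, 1, 2, 0, 1, 2, 3, 2, 1, 2, 0, 1, 2, 0, 1]
  | 10 => [2, 1, 2, 0, 1, 2, 3, 2, 1, 2, 0, 1, 2, 3, 2, 1, 2, 0, 1, 2, 1, 0]
  | 11 => [2, 1, 2, 0, 1, 2, 3, 2, 1, 2, 0, 1, 2, 3, 2, 1, 2, 0, 1, 2]
  | 12 => [1, 2, 0, 1, 2, 3, 2, 1, 2, 0, 1, 2, 3, 1, 2, 0, 1, 2, 0, 1, 0]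
  | 13 => [1, 2, 0, 1, 2, 3, 2, 1, 2, 0, 1, 2, 3, 1, 2, 0, 1, 2, 0, 1]
  | 14 => [0, 1, 2, 3, 1, 2, 0, 1, 2, 3, 0, 1, 2, 1, 0]
  | _ => []

/-- the checks on the words -/
def chkJ (m : ℕ) : Bool :=
  (List.finRange 4).all fun i =>
    let r := ract (oJ m) (chevF4.simple i)
    Nat.blt r 48 &&
    (if bt m i then
        (List.finRange 4).all fun k => decide (rt chevF4 r k ≤ 0) && (bt m k || decide (rt chevF4 r k = 0))
      else
        decide (rt chevF4 r i ≠ 0) && (List.finRange 4).all fun k => decide (0 ≤ rt chevF4 r k)) &&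
    Nat.beq (ract (om m) r) (chevF4.neg (chevF4.simple i))

theorem chkJ_all : ((List.range 16).all chkJ) = true := by decide +kernel

/-- in the four cases with a component of type `A₂` the element `w₀ w_J` does not fix `J` -/
def bad (m : ℕ) : Bool :=
  (List.finRange 4).any fun i => bt m i && ! Nat.beq (ract (om m) (chevF4.simple i)) (chevF4.simple i)

theorem bad_all : ([3, 11, 12, 13].all bad) = true := by decide +kernel

section Key

variable {W : Type*} [Group W] (cs : CoxeterSystem CoxeterMatrix.F₄ W)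

theorem ract_lt (ω : List (Fin 4)) {r : ℕ} (hr : r < 48) : ract ω r < 48 := by
  induction ω with
  | nil => exact hr
  | cons i ω ih => exact reflectRoot_lt hp.inList (lt_rank hp i) ih

theorem rep_word (ω : List (Fin 4)) {r : ℕ} (hr : r < 48) :
    rep cs hp.isCartan (cs.wordProd ω) (vec chevF4 4 r) = vec chevF4 4 (ract ω r) := by
  induction ω with
  | nil => rw [wordProd_nil, map_one, Module.End.one_apply]; rfl
  | cons i ω ih =>
    rw [wordProd_cons, rep_mul_apply, ih, rep_vec hp cs i (ract_lt ω hr)]; rfl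

theorem simple_lt48 (i : Fin 4) : chevF4.simple i < 48 := by
  revert i; decide +kernel

theorem exists_code (J : Set (Fin 4)) : ∃ m < 16, ∀ i, (bt m i = true ↔ i ∈ J) := by
  classical
  have h : ∀ b : Fin 4 → Bool, ∃ m < 16, ∀ i, bt m i = b i := by decide +kernel
  obtain ⟨m, hm, h1⟩ := h fun i => decide (i ∈ J)
  exact ⟨m, hm, fun i => by rw [h1 i, decide_eq_true_iff]⟩

/-- **The extremal elements of the Weyl group are given by the words `om m`.** -/
theorem exists_om [Finite W] {w : W} (hE : Ext cs hp.isCartan w) :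
    ∃ m < 16, w = cs.wordProd (om m) ∧ m ∉ [3, 11, 12, 13] := by
  classical
  obtain ⟨m, hm, hmJ⟩ := exists_code (FixJ cs hp.isCartan w)
  have hc : chkJ m = true := List.all_eq_true.1 chkJ_all m (List.mem_range.2 hm)
  unfold chkJ at hc
  rw [List.all_eq_true] at hc
  have hfix : ∀ i, i ∈ FixJ cs hp.isCartan w → rep cs hp.isCartan w (sr i) = sr i := fun i hi => hi
  have key : ∀ i : Fin 4, rep cs hp.isCartan (w * cs.wordProd (oJ m)) (sr i) ≤ 0 ∧
      rep cs hp.isCartan (cs.wordProd (om m) * cs.wordProd (oJ m)) (sr i) = - sr i := by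
    intro i
    have h1 := hc i (List.mem_finRange i)
    simp only [Bool.and_eq_true] at h1
    obtain ⟨⟨h2, h3⟩, h4⟩ := h1
    have hr : ract (oJ m) (chevF4.simple i) < 48 := by simpa [Nat.blt_eq] using h2
    have e1 : rep cs hp.isCartan (cs.wordProd (oJ m)) (sr i) = vec chevF4 4 (ract (oJ m) (chevF4.simple i)) := by
      rw [← vec_simple hp i, rep_word cs _ (simple_lt48 i)]
    constructor
    · rw [rep_mul_apply, e1]
      by_cases hb : bt m i = true
      · rw [if_pos hb, List.all_eq_true] at h3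
        have h5 : rep cs hp.isCartan w (vec chevF4 4 (ract (oJ m) (chevF4.simple i))) =
            vec chevF4 4 (ract (oJ m) (chevF4.simple i)) := by
          refine rep_fix fun k hk => ?_
          have h6 := h3 k (List.mem_finRange k)
          rw [Bool.and_eq_true, Bool.or_eq_true, decide_eq_true_iff, decide_eq_true_iff, hmJ] at h6
          exact h6.2.resolve_left hk
        rw [h5]
        intro k
        have h6 := h3 k (List.mem_finRange k)
        rw [Bool.and_eq_true, decide_eq_true_iff] at h6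
        exact h6.1
      · rw [if_neg hb, Bool.and_eq_true, decide_eq_true_iff, List.all_eq_true] at h3
        have hroot := isRoot_vec hp cs hr
        have hpos : 0 ≤ vec chevF4 4 (ract (oJ m) (chevF4.simple i)) := by
          intro k
          have h6 := h3.2 k (List.mem_finRange k)
          rw [decide_eq_true_iff] at h6
          exact h6
        rcases (hroot.act w).pos_or_neg with h7 | h7
        · exfalso
          have h8 : vec chevF4 4 (ract (oJ m) (chevF4.simple i)) ∈ PW cs hp.isCartan w := ⟨hroot, hpos, h7⟩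
          rw [PW_eq hE] at h8
          exact h3.1 (h8.2.2 i fun hi => hb ((hmJ i).2 hi))
        · exact h7
    · have h5 : ract (om m) (ract (oJ m) (chevF4.simple i)) = chevF4.neg (chevF4.simple i) :=
        Nat.eq_of_beq_eq_true h4
      rw [rep_mul_apply, e1, rep_word cs _ hr, h5, vec_neg hp (simple_lt48 i), vec_simple hp i]
  set v := w * cs.wordProd (oJ m) with hv
  set u := cs.wordProd (om m) * cs.wordProd (oJ m) with hu
  have h1 : v * u⁻¹ = 1 := by
    refine eq_one_of_nonneg cs hp.isCartan _ fun i => ?_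
    have h2 : rep cs hp.isCartan u⁻¹ (sr i) = - sr i := by
      have h3 : rep cs hp.isCartan u (- sr i) = sr i := by rw [map_neg, (key i).2, _root_.neg_neg]
      have h4 : rep cs hp.isCartan u⁻¹ (rep cs hp.isCartan u (- sr i)) = - sr i := by
        rw [← rep_mul_apply, inv_mul_cancel, map_one, Module.End.one_apply]
      rwa [h3] at h4
    show 0 ≤ rep cs hp.isCartan (v * u⁻¹) (sr i)
    rw [rep_mul_apply, h2, map_neg]
    exact neg_nonneg.2 (key i).1
  have h2 : w = cs.wordProd (om m) := by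
    have h3 : v = u := mul_inv_eq_one.1 h1
    exact mul_right_cancel (b := cs.wordProd (oJ m)) h3
  refine ⟨m, hm, h2, fun hbad => ?_⟩
  have h3 : bad m = true := List.all_eq_true.1 bad_all m hbad
  unfold bad at h3
  rw [List.any_eq_true] at h3
  obtain ⟨i, -, h4⟩ := h3
  rw [Bool.and_eq_true, hmJ] at h4
  have h5 := hfix i h4.1
  rw [h2, ← vec_simple hp i, rep_word cs _ (simple_lt48 i)] at h5
  have h6 : ract (om m) (chevF4.simple i) = chevF4.simple i := vec_inj hp (ract_lt _ (simple_lt48 i)) (simple_lt48 i) h5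
  have h7 := h4.2
  rw [h6, Nat.beq_refl] at h7
  exact absurd h7 (by decide)

end Key

end Cfsg.Agent.H81.FFourW
end

-- part: H81/FFourConj
section
/-!
Every involution of `F₄(q)`, `q` even, is conjugate to one of four products of root elements (helper81).
-/

set_option autoImplicit false
set_option maxRecDepth 100000

namespace Cfsg.Agent.H81.FFourConj

open CoxeterSystem Cfsg.Agent.ChevalleyStructure.CoxeterGeom Cfsg.Agent.Tits.Roots Cfsg.Agent.Tits.Core
  Cfsg.Agent.Nodes.Comb Cfsg.Agent.Nodes.Reps Cfsg.Agent.Nodes.BNOf Cfsg.Agent.Nodes.Bruhat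
open Cfsg.Lie Cfsg.Agent.ChevalleyStructure Cfsg.Agent.ChevalleyStructure.Elts
  Cfsg.Agent.ChevalleyStructure.TwF4.Bits Cfsg.Agent.Nodes.RGDChev Cfsg.Agent.H83.Disp Cfsg.Agent.H81.FFourCode Cfsg.Agent.H81.FFourFus
  Cfsg.Agent.H81.FFourW

universe u

variable {K : Type u} [Field K]

/-- the word in natural numbers -/
def toN (ω : List (Fin 4)) : List ℕ := ω.map fun i => i.val

theorem nn_eq [CharP K 2] (i : Fin 4) : nn hp K i = wG K (nl i.val) := by
  have h : ∀ j : Fin 4, nl j.val = [chevF4.simple j.val, chevF4.neg (chevF4.simple j.val), chevF4.simple j.val] := by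
    decide +kernel
  rw [h i]
  show nG hp.inList (chevF4.simple i) 1 = _
  rw [nG_def]
  simp only [wG_cons, wG_nil, mul_one, inv_one, neg_one_eq]

theorem prod_nn [CharP K 2] (ω : List (Fin 4)) : (ω.map (nn hp K)).prod = wG K (nW (toN ω)) := by
  induction ω with
  | nil => rfl
  | cons i ω ih =>
    rw [List.map_cons, List.prod_cons, ih, nn_eq]
    show _ = wG K (nl i.val ++ nW (toN ω))
    rw [wG_append]

variable {W : Type*} [Group W] (cs : CoxeterSystem CoxeterMatrix.F₄ W)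

theorem rp_word {T : Subgroup (GL chevF4.Idx K)} (hN : NSys CoxeterMatrix.F₄ T (nn hp K)) (ω : List (Fin 4)) :
    Rp cs hN (cs.wordProd ω) (ω.map (nn hp K)).prod := by
  induction ω with
  | nil => rw [wordProd_nil]; exact rp_one
  | cons i ω ih =>
    rw [wordProd_cons, List.map_cons, List.prod_cons]
    exact (rp_simple cs hN i).mul ih

theorem group_le_GG : chevF4.group K ≤ GG cs hp.isCartan (chevF4.diagonalSubgroup K) (XV chevF4 4 K) := by
  rw [group_le_iff hp.inList]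
  intro r hr t
  refine X_le_GG (isRoot_vec hp cs hr) ?_
  rw [XV_vec hp K hr]
  exact xG_mem_rootSubgroup hp.inList r t

theorem GG_le_group : GG cs hp.isCartan (chevF4.diagonalSubgroup K) (XV chevF4 4 K) ≤ chevF4.group K := by
  unfold GG
  refine sup_le (diagonal_le_group hp.inList K) ?_
  refine iSup_le fun x => XV_le_group hp _

theorem fus (m : ℕ) (hm : m < 16) (hbad : m ∉ [3, 11, 12, 13]) (h15 : m ≠ 15) :
    ∃ h b, b ∈ reps ∧ chk (toN (om m)) h b = true := by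
  interval_cases m
  · exact ⟨_, _, by decide, chk0⟩
  · exact ⟨_, _, by decide, chk1⟩
  · exact ⟨_, _, by decide, chk2⟩
  · exact absurd (by decide) hbad
  · exact ⟨_, _, by decide, chk4⟩
  · exact ⟨_, _, by decide, chk5⟩
  · exact ⟨_, _, by decide, chk6⟩
  · exact ⟨_, _, by decide, chk7⟩
  · exact ⟨_, _, by decide, chk8⟩
  · exact ⟨_, _, by decide, chk9⟩
  · exact ⟨_, _, by decide, chk10⟩
  · exact absurd (by decide) hbad
  · exact absurd (by decide) hbad
  · exact absurd (by decide) hbad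
  · exact ⟨_, _, by decide, chk14⟩
  · exact absurd rfl h15

/-- the squares of the representatives are trivial -/
theorem sq_reps [CharP K 2] {b : List ℕ} (hb : b ∈ reps) : wG K b * wG K b = 1 := by
  have h : (reps.all fun b => okW (b ++ b) && Nat.beq (wc (b ++ b) idN) (wc [] idN)) = true := by decide +kernel
  rw [List.all_eq_true] at h
  have h1 := h b hb
  rw [Bool.and_eq_true] at h1
  rw [← wG_append, eq_of_code (K := K) h1.1 (by decide) h1.2, wG_nil]

/-- **Every involution of `F₄(q)`, `q` even, is conjugate to one of the four representatives.** -/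
theorem exists_rep [Finite K] [CharP K 2] {t : GL chevF4.Idx K} (ht : t ∈ chevF4.group K) (h2 : t * t = 1)
    (h1 : t ≠ 1) : ∃ y ∈ chevF4.group K, ∃ b ∈ reps, y * t * y⁻¹ = wG K b := by
  let cs : CoxeterSystem CoxeterMatrix.F₄ CoxeterMatrix.F₄.Group := CoxeterMatrix.F₄.toCoxeterSystem
  have : Finite CoxeterMatrix.F₄.Group := finite_W hp cs
  have : Fact (Nat.Prime 2) := ⟨Nat.prime_two⟩
  have R := rgd_GL (K := K) hp cs 2
  obtain ⟨y, hy, w, hE, hww, hrp⟩ := exists_conj_rp R (group_le_GG cs ht) h2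
  obtain ⟨m, hm, rfl, hbad⟩ := exists_om cs hE
  have hyG := GG_le_group cs hy
  have hodd := R.tcop
  have hg2 : (y * t * y⁻¹) * (y * t * y⁻¹) = 1 := by
    calc (y * t * y⁻¹) * (y * t * y⁻¹) = y * (t * t) * y⁻¹ := by group
      _ = 1 := by rw [h2]; group
  by_cases h15 : m = 15
  · exfalso
    subst h15
    have h3 : (1 : GL chevF4.Idx K) * 1 = 1 := one_mul 1
    have h4 : Rp cs R.nsys (cs.wordProd (om 15)) 1 := by
      show Rp cs R.nsys (cs.wordProd []) 1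
      rw [wordProd_nil]; exact rp_one
    obtain ⟨s, -, e⟩ := conj_of_rp hodd hrp h4 hg2 h3
    apply h1
    have h5 : y * t * y⁻¹ = 1 := by
      have := mul_inv_eq_one.1 e
      exact mul_left_cancel (a := s) (by rw [this, mul_one])
    have := mul_inv_eq_one.1 h5
    exact mul_left_cancel (a := y) (by rw [this, mul_one])
  · obtain ⟨h, b, hb, hc⟩ := fus m hm hbad h15
    have h3 := conj_of_chk (K := K) hc
    have h4 := rp_word (K := K) cs R.nsys (om m)
    rw [prod_nn] at h4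
    have h5 : wG K (nW (toN (om m))) * wG K (nW (toN (om m))) = 1 := by
      have h6 := sq_reps (K := K) hb
      rw [← h3] at h6
      have h7 : wG K h * (wG K (nW (toN (om m))) * wG K (nW (toN (om m)))) * (wG K h)⁻¹ = 1 := by
        rw [← h6]; group
      have h8 := mul_inv_eq_one.1 h7
      exact mul_left_cancel (a := wG K h) (by rw [h8, mul_one])
    obtain ⟨s, hs, e⟩ := conj_of_rp hodd hrp h4 hg2 h5
    refine ⟨wG K h * s * y, mul_mem (mul_mem (wG_mem h) (diagonal_le_group hp.inList K hs)) hyG, b, hb, ?_⟩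
    rw [← h3, ← e]
    group

end Cfsg.Agent.H81.FFourConj
end
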