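import Cfsg.Agent.ChevalleyStructure.TwF4.Tables
import Cfsg.Agent.ChevalleyStructure.Elts
set_option linter.all false

/-!
Kernel computations with words in the root elements `x_r(1)` of type `F₄` over a field of characteristic 2 (helper81).

* `wG w` : the product of the `x_r(1)`, `r` in the list `w`, in `GL`;
* `wc w M` : the packed matrix of `wG w * M`, `coe_wG` : `wG w` is the matrix coded by `wc w idN`;
* `conj_of_code` : conjugacy of two words from an equality of natural numbers.
-/

set_option autoImplicit false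

namespace Cfsg.Agent.H81.FFourCode

open Cfsg.Lie Cfsg.Agent.ChevalleyStructure.TwF4.Bits Cfsg.Agent.ChevalleyStructure.TwF4.Tables
  Cfsg.Agent.ChevalleyStructure.Elts

universe u

/-- `F₄` is one of the tabulated data -/
theorem hF : InList chevF4 := by simp [InList]

/-- `x_r(1) - 1` in characteristic 2, as a sparse matrix -/
def Xls (r : ℕ) : Sparse := Els r ++ Fls r

theorem okS_Xls (r : ℕ) : okS (Xls r) = true := by
  have h1 := okS_Els r
  have h2 := okS_Fls r
  unfold okS at h1 h2 ⊢
  unfold Xls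
  rw [List.all_append, h1, h2]; rfl

/-- the code of `x_r(1) * M` -/
def mulX (r M : ℕ) : ℕ := M ^^^ lmul (Xls r) M

/-- the code of `x_{r_1}(1) ⋯ x_{r_k}(1) * M` -/
def wc (w : List ℕ) (M : ℕ) : ℕ := w.foldr mulX M

theorem wc_nil (M : ℕ) : wc [] M = M := rfl
theorem wc_cons (r : ℕ) (w : List ℕ) (M : ℕ) : wc (r :: w) M = mulX r (wc w M) := rfl
theorem wc_append (w v : List ℕ) (M : ℕ) : wc (w ++ v) M = wc w (wc v M) := by
  unfold wc; rw [List.foldr_append]

variable {K : Type u} [Field K]

/-- the product of the `x_r(1)` -/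
def wG (K : Type u) [Field K] (w : List ℕ) : GL chevF4.Idx K := (w.map fun r => xG hF r (1 : K)).prod

theorem wG_nil : wG K [] = 1 := rfl
theorem wG_cons (r : ℕ) (w : List ℕ) : wG K (r :: w) = xG hF r 1 * wG K w := rfl
theorem wG_append (w v : List ℕ) : wG K (w ++ v) = wG K w * wG K v := by
  unfold wG; rw [List.map_append, List.prod_append]

theorem wG_mem (w : List ℕ) : wG K w ∈ chevF4.group K := by
  induction w with
  | nil => exact one_mem _
  | cons r w ih => exact mul_mem (xG_mem_group hF r 1) ih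

theorem x_one_eq [CharP K 2] {r : ℕ} (hr : r < 48) : chevF4.x K r 1 = 1 + semS pos K (Xls r) := by
  rw [x_eq r hr, Xls, semS_append, one_smul, one_pow, one_smul, add_assoc]

theorem sem_mulX [CharP K 2] {r : ℕ} (hr : r < 48) (M : ℕ) :
    sem pos K (mulX r M) = chevF4.x K r 1 * sem pos K M := by
  rw [mulX, sem_xor, sem_lmul posOK _ (okS_Xls r), x_one_eq hr, add_mul, one_mul]

/-- all letters are roots -/
def okW (w : List ℕ) : Bool := w.all fun r => Nat.blt r 48

theorem okW_cons {r : ℕ} {w : List ℕ} (h : okW (r :: w) = true) : r < 48 ∧ okW w = true := by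
  unfold okW at h ⊢
  rw [List.all_cons, Bool.and_eq_true] at h
  exact ⟨by simpa [Nat.blt_eq] using h.1, h.2⟩

theorem sem_wc [CharP K 2] {w : List ℕ} (hw : okW w = true) (M : ℕ) :
    sem pos K (wc w M) = (wG K w : Matrix chevF4.Idx chevF4.Idx K) * sem pos K M := by
  induction w with
  | nil => rw [wc_nil, wG_nil, Units.val_one, one_mul]
  | cons r w ih =>
    obtain ⟨h1, h2⟩ := okW_cons hw
    rw [wc_cons, sem_mulX h1, ih h2, wG_cons, Units.val_mul, mul_assoc, coe_xG]

theorem coe_wG [CharP K 2] {w : List ℕ} (hw : okW w = true) :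
    (wG K w : Matrix chevF4.Idx chevF4.Idx K) = sem pos K (wc w idN) := by
  rw [sem_wc hw, sem_idN, mul_one]

theorem neg_one_eq [CharP K 2] : (-1 : K) = 1 := CharTwo.neg_eq 1

theorem xG_one_inv [CharP K 2] (r : ℕ) : (xG hF r (1 : K))⁻¹ = xG hF r 1 := by
  rw [xG_inv, neg_one_eq]

theorem wG_inv [CharP K 2] (w : List ℕ) : (wG K w)⁻¹ = wG K w.reverse := by
  induction w with
  | nil => rw [wG_nil, inv_one, List.reverse_nil, wG_nil]
  | cons r w ih =>
    rw [wG_cons, mul_inv_rev, ih, List.reverse_cons, wG_append, xG_one_inv, wG_cons, wG_nil, mul_one]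

/-- equality of words -/
theorem eq_of_code [CharP K 2] {a b : List ℕ} (ha : okW a = true) (hb : okW b = true)
    (h : Nat.beq (wc a idN) (wc b idN) = true) : wG K a = wG K b := by
  apply Units.ext
  rw [coe_wG ha, coe_wG hb, Nat.eq_of_beq_eq_true h]

/-- conjugacy of words -/
theorem conj_of_code [CharP K 2] {h a b : List ℕ} (ho : okW (h ++ a ++ h.reverse) = true) (hb : okW b = true)
    (hc : Nat.beq (wc (h ++ a ++ h.reverse) idN) (wc b idN) = true) : wG K h * wG K a * (wG K h)⁻¹ = wG K b := by
  rw [wG_inv, ← wG_append, ← wG_append]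
  exact eq_of_code ho hb hc

end Cfsg.Agent.H81.FFourCode
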